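import Cfsg.Agent.Helper36.TwE6.P_Rel

/-!
Helper36 / twisted E6 automorphisms (S2130), PIECE FX (the fixed points of `σ` in the fundamental root subgroups).
Model: `Cfsg/Agent/Helper18/Tw/P_Fix.lean` (the same statements for `³D₄`).
(Proofs: helper5.)
-/

set_option autoImplicit false
set_option maxRecDepth 100000

namespace Cfsg.Agent.Helper36.TwE6

open Cfsg Cfsg.Lie Cfsg.Agent.Helper18 Cfsg.Agent.Helper18.Aut Cfsg.Agent.Helper19.Twist
  Cfsg.Agent.Helper19.Poinc Cfsg.Agent.Helper19.Cox Cfsg.Agent.S1081 Cfsg.Agent.Helper6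
  Cfsg.Agent.Helper40.SL2Hom

section FXaux

variable {K : Type*} [Field K]

/-- the fixed points of `σ` on `X_r X_{r̄}` for a class `[r, r̄]` of `ClE6` with trivial signs -/
theorem FX_fix_class (f : K ≃+* K) (r r' : ℕ) (hmem : [r, r'] ∈ ClE6) (hr' : r' ∈ [r, r'])
    (hpi : piInv0 r' = r) (heps : eps0 r = 1) (g : GL chevE6.Idx K)
    (hg : g ∈ listSubgroup chevE6 K [r, r'] ⊓ FixE6 f) :
    ∃ t, g = xGL chevE6 K r t * xGL chevE6 K r' (f t) := by
  have c1 : ClosedList chevE6 phiTE6 [[r, r']].flatten := by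
    rw [flatten_singleton]; exact closedOK_spec (List.all_eq_true.mp closedOK_E6_each _ hmem)
  have c2 : classOK chevE6 pi0 [[r, r']] = true := List.all_eq_true.mp classOK_E6_each _ hmem
  have h1 := fix_listSubgroup_eq (K := K) memE6 gradeOK'_E6 rho0 rhoInv0 pi0 piInv0 eps0 permsOK_E6 f allOK0
    [[r, r']] c1 c2
  rw [flatten_singleton] at h1
  have hg' : g ∈ ((listSubgroup chevE6 K [r, r'] ⊓ Fix chevE6 rho0 rhoInv0 pi0 piInv0 eps0 permsOK_E6 f :
      Subgroup (GL chevE6.Idx K)) : Set (GL chevE6.Idx K)) := hg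
  rw [h1] at hg'
  obtain ⟨t, ht, rfl⟩ := hg'
  obtain ⟨-, ht2⟩ := mem_TS' piInv0 eps0 f _ t ht
  have e := ht2 r' hr'
  rw [hpi, heps, Int.cast_one, one_mul] at e
  refine ⟨t r, ?_⟩
  simp only [pwG, List.map_cons, List.map_nil, List.prod_cons, List.prod_nil, mul_one]
  rw [e]

/-- conjugation maps a closure into a subgroup if it does so on the generators -/
theorem FX_conj_closure {Γ : Type*} [Group Γ] (n : Γ) (S : Set Γ) (H : Subgroup Γ)
    (hS : ∀ s ∈ S, n * s * n⁻¹ ∈ H) (g : Γ) (hg : g ∈ Subgroup.closure S) : n * g * n⁻¹ ∈ H := by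
  induction hg using Subgroup.closure_induction with
  | mem x hx => exact hS x hx
  | one => simp
  | mul a b _ _ ha hb =>
    have : n * (a * b) * n⁻¹ = (n * a * n⁻¹) * (n * b * n⁻¹) := by group
    rw [this]; exact H.mul_mem ha hb
  | inv a _ ha =>
    have : n * a⁻¹ * n⁻¹ = (n * a * n⁻¹)⁻¹ := by group
    rw [this]; exact H.inv_mem ha

theorem FX_xGL_mem_list (P : List ℕ) (r : ℕ) (hr : r ∈ P) (t : K) :
    xGL chevE6 K r t ∈ listSubgroup chevE6 K P :=
  Subgroup.subset_closure ⟨r, t, hr, xGL_val chevE6 _ (triOK_of_mem chevE6 memE6) r t⟩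

/-- `s_{a_i}` conjugates `X_{-r} X_{-r̄}` into `X_r X_{r̄}` -/
theorem FX_conj_neg (f : K ≃+* K) (i : Fin 2) (g : GL chevE6.Idx K)
    (hg : g ∈ listSubgroup chevE6 K [nr i, nr' i]) :
    w (xa f i) (ya f i) 1 * g * (w (xa f i) (ya f i) 1)⁻¹ ∈ listSubgroup chevE6 K [pr i, pr' i] := by
  have R₁ := RE_relx (K := K) i
  have R₂ := RE_relx' (K := K) i
  have hn : w (xa f i) (ya f i) 1 =
      w (xGL chevE6 K (pr i)) (xGL chevE6 K (nr i)) 1 * w (xGL chevE6 K (pr' i)) (xGL chevE6 K (nr' i)) 1 := by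
    have := RE_w_prod (xGL chevE6 K (pr i)) (xGL chevE6 K (nr i)) (xGL chevE6 K (pr' i))
      (xGL chevE6 K (nr' i)) (f : K →+* K) (RE_hxx i) (RE_hxy i) (RE_hyx i) 1
    rw [map_one] at this
    exact this
  -- `w₂` commutes with `y₁`, `w₁` commutes with `x₂`
  have hyw2 : ∀ v, Commute (xGL chevE6 K (nr i) v) (w (xGL chevE6 K (pr' i)) (xGL chevE6 K (nr' i)) 1) :=
    fun v => ((RE_hyx i v 1).mul_right (RE_hyy i v _)).mul_right (RE_hyx i v 1)
  have hw1x : ∀ v, Commute (w (xGL chevE6 K (pr i)) (xGL chevE6 K (nr i)) 1) (xGL chevE6 K (pr' i) v) :=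
    fun v => ((RE_hxx i 1 v).mul_left (RE_hyx i _ v)).mul_left (RE_hxx i 1 v)
  unfold listSubgroup at hg
  refine FX_conj_closure _ _ _ ?_ g hg
  rintro s ⟨r, t, hr, hs⟩
  have es : s = xGL chevE6 K r t := Units.ext (by
    rw [hs, xGL_val chevE6 _ (triOK_of_mem chevE6 memE6)])
  simp only [List.mem_cons, List.not_mem_nil, or_false] at hr
  rw [es, hn]
  rcases hr with rfl | rfl
  · have h1 := R₁.conj_y 1 t one_ne_zero
    have : w (xGL chevE6 K (pr i)) (xGL chevE6 K (nr i)) 1 * w (xGL chevE6 K (pr' i)) (xGL chevE6 K (nr' i)) 1 *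
        xGL chevE6 K (nr i) t *
        (w (xGL chevE6 K (pr i)) (xGL chevE6 K (nr i)) 1 * w (xGL chevE6 K (pr' i)) (xGL chevE6 K (nr' i)) 1)⁻¹ =
        xGL chevE6 K (pr i) (-(1 * 1 * t)) := by
      rw [← h1, mul_assoc _ _ (xGL chevE6 K (nr i) t), ← (hyw2 t).eq]
      group
    rw [this]
    exact FX_xGL_mem_list _ _ (by simp) _
  · have h2 := R₂.conj_y 1 t one_ne_zero
    have : w (xGL chevE6 K (pr i)) (xGL chevE6 K (nr i)) 1 * w (xGL chevE6 K (pr' i)) (xGL chevE6 K (nr' i)) 1 *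
        xGL chevE6 K (nr' i) t *
        (w (xGL chevE6 K (pr i)) (xGL chevE6 K (nr i)) 1 * w (xGL chevE6 K (pr' i)) (xGL chevE6 K (nr' i)) 1)⁻¹ =
        xGL chevE6 K (pr' i) (-(1 * 1 * t)) := by
      have e : w (xGL chevE6 K (pr i)) (xGL chevE6 K (nr i)) 1 * w (xGL chevE6 K (pr' i)) (xGL chevE6 K (nr' i)) 1 *
          xGL chevE6 K (nr' i) t *
          (w (xGL chevE6 K (pr i)) (xGL chevE6 K (nr i)) 1 * w (xGL chevE6 K (pr' i)) (xGL chevE6 K (nr' i)) 1)⁻¹ =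
          w (xGL chevE6 K (pr i)) (xGL chevE6 K (nr i)) 1 *
          (w (xGL chevE6 K (pr' i)) (xGL chevE6 K (nr' i)) 1 * xGL chevE6 K (nr' i) t *
            (w (xGL chevE6 K (pr' i)) (xGL chevE6 K (nr' i)) 1)⁻¹) *
          (w (xGL chevE6 K (pr i)) (xGL chevE6 K (nr i)) 1)⁻¹ := by group
      rw [e, h2, (hw1x _).eq]
      group
    rw [this]
    exact FX_xGL_mem_list _ _ (by simp) _

end FXaux

/-- PIECE FX1: `(X_r X_{r̄})^σ = X_{a_i}` (this is inside the proof of helper19's `simple1_le_E6`;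
`[56, 36]` and `[42, 37]` are classes in `ClE6`) -/
theorem fixJ_pos {K : Type*} [Field K] [Fintype K] {q : ℕ} (f : K ≃+* K) (hf : ∀ t, f t = t ^ q)
    (hK : Fintype.card K = q ^ 2) (i : Fin 2) (g : GL chevE6.Idx K)
    (hg : g ∈ listSubgroup chevE6 K [pr i, pr' i] ⊓ FixE6 f) : ∃ t, g = xa f i t := by
  fin_cases i
  · exact FX_fix_class f 56 36 (by decide) (by decide) rfl rfl g hg
  · exact FX_fix_class f 42 37 (by decide) (by decide) rfl rfl g hg

/-- PIECE FX2: `(X_{-r} X_{-r̄})^σ = X_{-a_i}` (conjugate by `s_{a_i}`: `sTw_a_eq`, `rel_a`, `Rel.conj`;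
or directly: the two root subgroups commute, uniqueness of the expression) -/
theorem fixJ_neg {K : Type*} [Field K] [Fintype K] {q : ℕ} (f : K ≃+* K) (hf : ∀ t, f t = t ^ q)
    (hK : Fintype.card K = q ^ 2) (i : Fin 2) (g : GL chevE6.Idx K)
    (hg : g ∈ listSubgroup chevE6 K [nr i, nr' i] ⊓ FixE6 f) : ∃ t, g = ya f i t := by
  have R := rel_a f i
  have hn : w (xa f i) (ya f i) 1 ∈ FixE6 f := by
    rw [← sTw_a_eq f hf i]
    exact twistedE6_le_FixE6 f hf hK (sTw f hf (Fin.castLE (by decide) i)).2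
  have h1 : w (xa f i) (ya f i) 1 * g * (w (xa f i) (ya f i) 1)⁻¹ ∈
      listSubgroup chevE6 K [pr i, pr' i] ⊓ FixE6 f :=
    ⟨FX_conj_neg f i g hg.1, (FixE6 f).mul_mem ((FixE6 f).mul_mem hn hg.2) ((FixE6 f).inv_mem hn)⟩
  obtain ⟨t, ht⟩ := fixJ_pos f hf hK i _ h1
  refine ⟨-(1⁻¹ * 1⁻¹ * t), ?_⟩
  rw [← R.conj' 1 t one_ne_zero, ← ht]
  group

/-- PIECE FX3: `X_{p}^σ = X_{b_j}` for `p = p₄, p₂` (`sigE6_xGL`, `xGL_injective`) -/
theorem fix2_pos {K : Type*} [Field K] (f : K ≃+* K) (j : Fin 2) (g : GL chevE6.Idx K)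
    (hg : g ∈ chevE6.rootSubgroup K (sr j) ⊓ FixE6 f) : ∃ u, f u = u ∧ g = xGL chevE6 K (sr j) u := by
  obtain ⟨u, rfl⟩ := mem_rootSubgroup chevE6 memE6 (sr j) g hg.1
  refine ⟨u, ?_, rfl⟩
  have h2 := (mem_FixE6 f _).mp hg.2
  rw [sigE6_xGL f _ (sr_lt j)] at h2
  have e1 : pi0 (sr j) = sr j := by fin_cases j <;> rfl
  have e2 : eps0 (sr j) = 1 := by fin_cases j <;> rfl
  rw [e1, e2, Int.cast_one, one_mul] at h2
  exact xGL_injective chevE6 memE6 (sr j) (sr_lt j) h2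

/-- PIECE FX4: `X_{-p}^σ = X_{-b_j}` -/
theorem fix2_neg {K : Type*} [Field K] (f : K ≃+* K) (j : Fin 2) (g : GL chevE6.Idx K)
    (hg : g ∈ chevE6.rootSubgroup K (snr j) ⊓ FixE6 f) : ∃ u, f u = u ∧ g = xGL chevE6 K (snr j) u := by
  obtain ⟨u, rfl⟩ := mem_rootSubgroup chevE6 memE6 (snr j) g hg.1
  refine ⟨u, ?_, rfl⟩
  have h2 := (mem_FixE6 f _).mp hg.2
  rw [sigE6_xGL f _ (snr_lt j)] at h2
  have e1 : pi0 (snr j) = snr j := by fin_cases j <;> rfl
  have e2 : eps0 (snr j) = 1 := by fin_cases j <;> rfl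
  rw [e1, e2, Int.cast_one, one_mul] at h2
  exact xGL_injective chevE6 memE6 (snr j) (snr_lt j) h2

section FXaux2

variable {K : Type*} [Field K]

/-- the coefficient family of `x_r(a) x_{r'}(b)` -/
def FX_coef2 (r r' : ℕ) (a b : K) : ℕ → K := fun s => if s = r then a else if s = r' then b else 0

theorem FX_pwG_coef2 (r r' : ℕ) (hne : r' ≠ r) (a b : K) :
    pwG chevE6 K [r, r'] (FX_coef2 r r' a b) = xGL chevE6 K r a * xGL chevE6 K r' b := by
  rw [pwG_cons, pwG_cons, pwG_nil, mul_one]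
  simp [FX_coef2, hne]

theorem FX_prod2_inj (r r' : ℕ) (hne : r' ≠ r) (hmem : [r, r'] ∈ ClE6) (a b a' b' : K)
    (h : xGL chevE6 K r a * xGL chevE6 K r' b = xGL chevE6 K r a' * xGL chevE6 K r' b') :
    a = a' ∧ b = b' := by
  have hP : ClosedList chevE6 phiTE6 [r, r'] :=
    closedOK_spec (List.all_eq_true.mp closedOK_E6_each [r, r'] hmem)
  have h0 : ∀ (x y : K) (s : ℕ), s ∉ [r, r'] → FX_coef2 r r' x y s = 0 := by
    intro x y s hs
    simp only [List.mem_cons, List.not_mem_nil, or_false, not_or] at hs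
    simp [FX_coef2, hs.1, hs.2]
  have h1 := pwG_injOn (K := K) memE6 gradeOK'_E6 [r, r'] hP (FX_coef2 r r' a b) (FX_coef2 r r' a' b')
    (h0 a b) (h0 a' b') (by rw [FX_pwG_coef2 r r' hne, FX_pwG_coef2 r r' hne, h])
  have e1 := congrFun h1 r
  have e2 := congrFun h1 r'
  constructor
  · simpa [FX_coef2] using e1
  · simpa [FX_coef2, hne] using e2

end FXaux2

/-- PIECE FX5: uniqueness of the expression `x_r(a) x_{r̄}(b)`, `r = p₁, p₃`
(`pwG_injOn memE6 gradeOK'_E6 [pr i, pr' i]`; the list is a class in `ClE6`: `closedOK_spec`, `closedOK_E6_each`;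
compare `prod3_inj` in `Helper18/Tw/P_Inner.lean`) -/
theorem prod2_inj {K : Type*} [Field K] (i : Fin 2) (a b a' b' : K)
    (h : xGL chevE6 K (pr i) a * xGL chevE6 K (pr' i) b = xGL chevE6 K (pr i) a' * xGL chevE6 K (pr' i) b') :
    a = a' ∧ b = b' := by
  fin_cases i
  · exact FX_prod2_inj 56 36 (by decide) (by decide) a b a' b' h
  · exact FX_prod2_inj 42 37 (by decide) (by decide) a b a' b' h

/-- PIECE FX6: `x_{a_i}` is injective (from FX5) -/
theorem xa_inj {K : Type*} [Field K] (f : K ≃+* K) (i : Fin 2) : Function.Injective (xa f i) := by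
  intro s t h
  exact (prod2_inj i _ _ _ _ h).1

/-- PIECE FX7: `x_{-a_i}` is injective -/
theorem ya_inj {K : Type*} [Field K] (f : K ≃+* K) (i : Fin 2) : Function.Injective (ya f i) := by
  intro s t h
  have R := rel_a f i
  have h1 := R.conj_y 1 s one_ne_zero
  have h2 := R.conj_y 1 t one_ne_zero
  rw [h] at h1
  have h3 := xa_inj f i (h1.symm.trans h2)
  simpa using h3

/-- PIECE FX8: `x_{a_i}(t) ∈ V` only for `t = 0` (in fact `x_{a_i}(t) ∈ U`, `U ∩ V = 1`: `pos_inf_neg'`) -/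
theorem xa_mem_neg {K : Type*} [Field K] (f : K ≃+* K) (i : Fin 2) (t : K)
    (h : xa f i t ∈ chevE6.negUnipotent K) : t = 0 := by
  have hpos : ∀ r, 36 ≤ r → r < 72 → ∀ u : K, xGL chevE6 K r u ∈ chevE6.posUnipotent K := by
    intro r h1 h2 u
    refine rootSubgroup_le_pos chevE6 r ?_ (Cfsg.Agent.Helper18.Aut.xGL_mem_rootSubgroup chevE6 memE6 r u)
    exact (isPosRoot_iff chevE6 _ (posOK_of_mem chevE6 memE6) r).mpr ⟨h1, h2⟩
  have hU : xa f i t ∈ chevE6.posUnipotent K := by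
    unfold xa
    fin_cases i
    · exact mul_mem (hpos 56 (by decide) (by decide) _) (hpos 36 (by decide) (by decide) _)
    · exact mul_mem (hpos 42 (by decide) (by decide) _) (hpos 37 (by decide) (by decide) _)
  have h1 : xa f i t ∈ chevE6.posUnipotent K ⊓ chevE6.negUnipotent K := ⟨hU, h⟩
  rw [pos_inf_neg' chevE6 memE6, Subgroup.mem_bot, ← xa_zero f i] at h1
  exact xa_inj f i h1

end Cfsg.Agent.Helper36.TwE6
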