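import Cfsg.Agent.Helper36.TwE6.L2Defs
import Cfsg.Agent.Helper36.TwE6.P_Fix
import Cfsg.Agent.Helper18.Aut.Level2

/-!
Helper36 / twisted E6 automorphisms (S2130), PIECE LA (the hypotheses `L2Hyp` of helper18's second step for the
twisted roots). Model: `Cfsg/Agent/Helper18/Tw/P_L2.lean` (`³D₄`, index set `Unit`); here the index set is `Fin 2`
and the Cartan integers are `A2 i k = 2` if `i = k`, `-1` otherwise (`a₀ — a₁` over `K`, `b₀ — b₁` over `k₀`).

(piece written by helper47; auxiliaries prefixed `LA_`)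
-/

set_option autoImplicit false
set_option maxRecDepth 100000

namespace Cfsg.Agent.Helper36.TwE6

open Cfsg Cfsg.Lie Cfsg.Agent.Helper18 Cfsg.Agent.Helper18.Aut Cfsg.Agent.Helper19.Twist
  Cfsg.Agent.Helper19.Poinc Cfsg.Agent.Helper19.Cox Cfsg.Agent.S1081 Cfsg.Agent.Helper6
  Cfsg.Agent.Helper40.SL2Hom Cfsg.Agent.S1080 Cfsg.Agent.Helper18.Sub

/-- the Cartan integers of a simple bond -/
def A2 : Fin 2 → Fin 2 → ℤ := fun i k => if i = k then 2 else -1

/-- the rank one relations restrict to a subfield (copy of `Helper18.Tw.rel_subfield`) -/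
theorem LA_rel_subfield {F Γ : Type*} [Field F] [Group Γ] (k : Subfield F) (x y : F → Γ) (R : Rel x y) :
    Rel (fun u : k => x (u : F)) (fun u : k => y (u : F)) where
  x_add := fun s t => by
    show x ((s + t : k) : F) = _
    rw [Subfield.coe_add]
    exact R.x_add _ _
  y_add := fun s t => by
    show y ((s + t : k) : F) = _
    rw [Subfield.coe_add]
    exact R.y_add _ _
  conj := fun t u ht => by
    have ht' : (t : F) ≠ 0 := fun e => ht (Subtype.ext e)
    have := R.conj (t : F) (u : F) ht'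
    simp only [w] at this ⊢
    simpa [Subfield.coe_neg, Subfield.coe_inv, Subfield.coe_mul] using this
  h_mul := fun s t hs ht => by
    have hs' : (s : F) ≠ 0 := fun e => hs (Subtype.ext e)
    have ht' : (t : F) ≠ 0 := fun e => ht (Subtype.ext e)
    have := R.h_mul (s : F) (t : F) hs' ht'
    simp only [h, w] at this ⊢
    simpa [Subfield.coe_neg, Subfield.coe_inv, Subfield.coe_mul, Subfield.coe_one] using this

/-- negative root elements lie in `V` -/
theorem LA_xGL_mem_negUnipotent {K : Type*} [Field K] (k : ℕ) (hk : chevE6.IsNegRoot k) (t : K) :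
    xGL chevE6 K k t ∈ chevE6.negUnipotent K := by
  apply Subgroup.subset_closure
  exact ⟨k, t, hk, xGL_val chevE6 _ (triOK_of_mem chevE6 memE6) k t⟩

/-- positive root elements lie in `U` -/
theorem LA_xGL_mem_posUnipotent {K : Type*} [Field K] (k : ℕ) (hk : chevE6.IsPosRoot k) (t : K) :
    xGL chevE6 K k t ∈ chevE6.posUnipotent K := by
  apply Subgroup.subset_closure
  exact ⟨k, t, hk, xGL_val chevE6 _ (triOK_of_mem chevE6 memE6) k t⟩

theorem LA_ya_mem_negUnipotent {K : Type*} [Field K] (f : K ≃+* K) (i : Fin 2) (u : K) :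
    ya f i u ∈ chevE6.negUnipotent K := by
  unfold ya
  fin_cases i
  · exact mul_mem (LA_xGL_mem_negUnipotent 15 (by decide) _) (LA_xGL_mem_negUnipotent 35 (by decide) _)
  · exact mul_mem (LA_xGL_mem_negUnipotent 29 (by decide) _) (LA_xGL_mem_negUnipotent 34 (by decide) _)

/-- `h_s(c) x_r(a) h_s(c)⁻¹ = x_r(c^⟨r,s^∨⟩ a)` -/
theorem LA_hG_conj {K : Type*} [Field K] (s : ℕ) (hs : s < chevE6.nroots) (c : K) (hc : c ≠ 0)
    (r : ℕ) (hr : r < chevE6.nroots) (a : K) :
    hG chevE6 K s c * xGL chevE6 K r a = xGL chevE6 K r (c ^ pairing' chevE6 s r * a) * hG chevE6 K s c :=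
  hMat_comm_xGL chevE6 memE6 (hG chevE6 K s c) s hs c hc (hWordGL_val chevE6 memE6 s c) r hr a

/-- the pairings between the two classes of size two -/
theorem LA_pair_a (i k : Fin 2) (hik : i ≠ k) :
    pairing' chevE6 (pr i) (pr k) = -1 ∧ pairing' chevE6 (pr' i) (pr k) = 0 ∧
      pairing' chevE6 (pr i) (pr' k) = 0 ∧ pairing' chevE6 (pr' i) (pr' k) = -1 := by
  fin_cases i <;> fin_cases k
  · exact absurd rfl hik
  · refine ⟨by decide, by decide, by decide, by decide⟩
  · refine ⟨by decide, by decide, by decide, by decide⟩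
  · exact absurd rfl hik

/-- the pairings between the two fixed nodes -/
theorem LA_pair_b (j k : Fin 2) (hjk : j ≠ k) : pairing' chevE6 (sr j) (sr k) = -1 := by
  fin_cases j <;> fin_cases k
  · exact absurd rfl hjk
  · decide
  · decide
  · exact absurd rfl hjk

/-- the action of `h_{a_i}(t)` on `x_{a_k}(u)`, `i ≠ k`, in the ambient group -/
theorem LA_h_a_conj {K : Type*} [Field K] (f : K ≃+* K) (i k : Fin 2) (hik : i ≠ k) (t u : K)
    (ht : t ≠ 0) :
    h (xa f i) (ya f i) t * xa f k u * (h (xa f i) (ya f i) t)⁻¹ = xa f k (t ^ (-1 : ℤ) * u) := by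
  obtain ⟨p1, p2, p3, p4⟩ := LA_pair_a i k hik
  have hft : f t ≠ 0 := fun e => ht ((map_eq_zero f).1 e)
  rw [h_a_eq f i t ht]
  have e1 : hG chevE6 K (pr i) t * hG chevE6 K (pr' i) (f t) * xa f k u =
      xa f k (t ^ (-1 : ℤ) * u) * (hG chevE6 K (pr i) t * hG chevE6 K (pr' i) (f t)) := by
    unfold xa
    calc hG chevE6 K (pr i) t * hG chevE6 K (pr' i) (f t) *
          (xGL chevE6 K (pr k) u * xGL chevE6 K (pr' k) (f u))
        = hG chevE6 K (pr i) t * (hG chevE6 K (pr' i) (f t) * xGL chevE6 K (pr k) u) *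
            xGL chevE6 K (pr' k) (f u) := by group
      _ = hG chevE6 K (pr i) t * (xGL chevE6 K (pr k) u * hG chevE6 K (pr' i) (f t)) *
            xGL chevE6 K (pr' k) (f u) := by
          rw [LA_hG_conj (pr' i) (pr'_lt i) (f t) hft (pr k) (pr_lt k) u, p2, zpow_zero, one_mul]
      _ = (hG chevE6 K (pr i) t * xGL chevE6 K (pr k) u) *
            (hG chevE6 K (pr' i) (f t) * xGL chevE6 K (pr' k) (f u)) := by group
      _ = (xGL chevE6 K (pr k) (t ^ (-1 : ℤ) * u) * hG chevE6 K (pr i) t) *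
            (xGL chevE6 K (pr' k) ((f t) ^ (-1 : ℤ) * f u) * hG chevE6 K (pr' i) (f t)) := by
          rw [LA_hG_conj (pr i) (pr_lt i) t ht (pr k) (pr_lt k) u, p1,
            LA_hG_conj (pr' i) (pr'_lt i) (f t) hft (pr' k) (pr'_lt k) (f u), p4]
      _ = xGL chevE6 K (pr k) (t ^ (-1 : ℤ) * u) *
            (hG chevE6 K (pr i) t * xGL chevE6 K (pr' k) ((f t) ^ (-1 : ℤ) * f u)) *
            hG chevE6 K (pr' i) (f t) := by group
      _ = xGL chevE6 K (pr k) (t ^ (-1 : ℤ) * u) *
            (xGL chevE6 K (pr' k) ((f t) ^ (-1 : ℤ) * f u) * hG chevE6 K (pr i) t) *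
            hG chevE6 K (pr' i) (f t) := by
          rw [LA_hG_conj (pr i) (pr_lt i) t ht (pr' k) (pr'_lt k) _, p3, zpow_zero, one_mul]
      _ = xGL chevE6 K (pr k) (t ^ (-1 : ℤ) * u) * xGL chevE6 K (pr' k) (f (t ^ (-1 : ℤ) * u)) *
            (hG chevE6 K (pr i) t * hG chevE6 K (pr' i) (f t)) := by
          rw [map_mul, map_zpow₀]
          group
  rw [e1]
  group

/-- the coercion of `h` from a subgroup -/
theorem LA_coe_h {Γ F : Type*} [Group Γ] [Field F] (G₀ : Subgroup Γ) (x y : F → G₀) (t : F) :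
    ((h x y t : G₀) : Γ) = h (fun s => (x s : Γ)) (fun s => (y s : Γ)) t := by
  simp only [h, w, Subgroup.coe_mul, Subgroup.coe_inv]

/-- PIECE LA1: the hypotheses `L2Hyp` (index set `Fin 2`, field `K`) for `x_{a_i}`, `x_{-a_i}` in `G¹`
(`rel_subtype` + `rel_a`; `xa_inj`, `ya_inj`; `disj` from `xa_mem_neg`; `hx`: for `i = k` from `Rel.h_x`, for `i ≠ k`
from `h_a_eq` and the action of `h_r(t)` on the root elements: `diagonalSubgroup_char`/`hG` lemmas; the Cartan integers
are `⟨p₃,p₁ᵛ⟩ = ⟨p₁,p₃ᵛ⟩ = ⟨p₅,p₆ᵛ⟩ = ⟨p₆,p₅ᵛ⟩ = -1`, the other mixed ones `0`) -/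
theorem l2_a {K : Type*} [Field K] [Fintype K] {q : ℕ} (f : K ≃+* K) (hf : ∀ t, f t = t ^ q) :
    L2Hyp (Γ := ↥(twistedE6 K q)) (F := K) (I := Fin 2) A2
      (fun i => xaS f hf i) (fun i => yaS f hf i) := by
  have R : ∀ i, Rel (xaS f hf i) (yaS f hf i) := fun i =>
    rel_subtype (twistedE6 K q) (xaS f hf i) (yaS f hf i) (rel_a f i)
  refine ⟨R, fun i s t hst => ?_, fun i s t hst => ?_, fun i t u htu => ?_, fun i => ?_,
    fun i k t u ht => ?_⟩
  · exact xa_inj f i (congrArg Subtype.val hst)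
  · exact ya_inj f i (congrArg Subtype.val hst)
  · apply xa_mem_neg f i t
    have e : xa f i t = ya f i u := congrArg Subtype.val htu
    rw [e]
    exact LA_ya_mem_negUnipotent f i u
  · simp [A2]
  · by_cases hik : i = k
    · subst hik
      rw [(R i).h_x t u ht]
      congr 1
      have : A2 i i = 2 := by simp [A2]
      rw [this, zpow_ofNat, sq]
    · have hA : A2 i k = -1 := by simp [A2, hik]
      rw [hA]
      apply Subtype.ext
      rw [Subgroup.coe_mul, Subgroup.coe_mul, Subgroup.coe_inv, LA_coe_h]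
      exact LA_h_a_conj f i k hik t u ht

/-- PIECE LA2: the same for `x_{b_j}`, `x_{-b_j}` over the fixed field `k₀` (restrict `relE (sr j)` to `k₀`:
`rel_subfield` as in `Helper18/Tw/P_L2.lean`; `⟨p₂,p₄ᵛ⟩ = ⟨p₄,p₂ᵛ⟩ = -1`) -/
theorem l2_b {K : Type*} [Field K] [Fintype K] {q : ℕ} (f : K ≃+* K) (hf : ∀ t, f t = t ^ q) :
    L2Hyp (Γ := ↥(twistedE6 K q)) (F := ↥(k0 f)) (I := Fin 2) A2
      (fun j => xbS f hf j) (fun j => ybS f hf j) := by
  have R0 : ∀ j : Fin 2, Rel (xGL chevE6 K (sr j)) (xGL chevE6 K (snr j)) := by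
    intro j
    have := relE (K := K) (sr j) (sr_lt j)
    rwa [neg_sr] at this
  have R : ∀ j, Rel (xbS f hf j) (ybS f hf j) := fun j =>
    rel_subtype (twistedE6 K q) (xbS f hf j) (ybS f hf j) (LA_rel_subfield (k0 f) _ _ (R0 j))
  refine ⟨R, fun j s t hst => ?_, fun j s t hst => ?_, fun j t u htu => ?_, fun j => ?_,
    fun j k t u ht => ?_⟩
  · have e : xGL chevE6 K (sr j) (s : K) = xGL chevE6 K (sr j) (t : K) := congrArg Subtype.val hst
    exact Subtype.ext (xGL_injective chevE6 memE6 (sr j) (sr_lt j) e)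
  · have e : xGL chevE6 K (snr j) (s : K) = xGL chevE6 K (snr j) (t : K) := congrArg Subtype.val hst
    exact Subtype.ext (xGL_injective chevE6 memE6 (snr j) (snr_lt j) e)
  · have e : xGL chevE6 K (sr j) (t : K) = xGL chevE6 K (snr j) (u : K) := congrArg Subtype.val htu
    have hpos : chevE6.IsPosRoot (sr j) := by fin_cases j <;> decide
    have hneg : chevE6.IsNegRoot (snr j) := by fin_cases j <;> decide
    have h1 : xGL chevE6 K (sr j) (t : K) ∈ chevE6.posUnipotent K ⊓ chevE6.negUnipotent K := by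
      refine ⟨LA_xGL_mem_posUnipotent (sr j) hpos _, ?_⟩
      rw [e]
      exact LA_xGL_mem_negUnipotent (snr j) hneg _
    rw [pos_inf_neg' (F := K) chevE6 memE6, Subgroup.mem_bot, ← (R0 j).x_zero] at h1
    exact Subtype.ext (xGL_injective chevE6 memE6 (sr j) (sr_lt j) h1)
  · simp [A2]
  · by_cases hjk : j = k
    · subst hjk
      rw [(R j).h_x t u ht]
      congr 1
      have : A2 j j = 2 := by simp [A2]
      rw [this, zpow_ofNat, sq]
    · have hA : A2 j k = -1 := by simp [A2, hjk]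
      rw [hA]
      have ht' : (t : K) ≠ 0 := fun e => ht (Subtype.ext e)
      apply Subtype.ext
      rw [Subgroup.coe_mul, Subgroup.coe_mul, Subgroup.coe_inv, LA_coe_h]
      have e1 : h (fun s : k0 f => ((xbS f hf j s : ↥(twistedE6 K q)) : GL chevE6.Idx K))
          (fun s : k0 f => ((ybS f hf j s : ↥(twistedE6 K q)) : GL chevE6.Idx K)) t =
          h (xGL chevE6 K (sr j)) (xGL chevE6 K (snr j)) (t : K) := by
        simp only [h, w, xbS_coe, ybS_coe, Subfield.coe_neg, Subfield.coe_inv, Subfield.coe_one]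
      rw [e1, h_b_eq j (t : K) ht']
      show hG chevE6 K (sr j) (t : K) * xGL chevE6 K (sr k) (u : K) * (hG chevE6 K (sr j) (t : K))⁻¹ =
        xGL chevE6 K (sr k) ((t ^ (-1 : ℤ) * u : k0 f) : K)
      rw [LA_hG_conj (sr j) (sr_lt j) (t : K) ht' (sr k) (sr_lt k) (u : K), LA_pair_b j k hjk,
        mul_inv_cancel_right]
      congr 1

end Cfsg.Agent.Helper36.TwE6
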