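import Cfsg.Agent.Helper36.TwE6.P_Fix

/-!
Helper36 / twisted E6 automorphisms, PIECE N (the longest element `n₀ = (s₀ s₁ s₂ s₃)⁶`).
In the ambient group `n₀ = nWordsGL chevE6 K ([0,5,2,4,3,1] repeated six times)`, and that word sends every
positive root to a negative one. (Clone of `Helper18/Tw/P_N0.lean`.)
-/

set_option autoImplicit false
set_option maxRecDepth 100000

namespace Cfsg.Agent.Helper36.TwE6

open Cfsg Cfsg.Lie Cfsg.Agent.Helper18 Cfsg.Agent.Helper18.Aut Cfsg.Agent.Helper19.Twist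
  Cfsg.Agent.Helper19.Poinc Cfsg.Agent.Helper19.Cox Cfsg.Agent.S1081 Cfsg.Agent.Helper6
  Cfsg.Agent.Helper40.SL2Hom

/-- the word of `n₀` in the fundamental reflections of `E₆` -/
def n0WordE6 : List ℕ :=
  [0, 5, 2, 4, 3, 1, 0, 5, 2, 4, 3, 1, 0, 5, 2, 4, 3, 1, 0, 5, 2, 4, 3, 1, 0, 5, 2, 4, 3, 1, 0, 5, 2, 4, 3, 1]

theorem n0Word_w0OK : w0OK chevE6 reflTabsE6 n0WordE6 (hlfOf chevE6) = true := by decide +kernel

theorem n0Word_starOK : starOK chevE6 reflTabsE6 n0WordE6 [5, 1, 4, 3, 2, 0] = true := by decide +kernel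

theorem n0Word_lt : ∀ i ∈ n0WordE6, i < chevE6.rank := by decide

/-- `n₀` in the ambient group -/
theorem n0Tw_val {K : Type*} [Field K] [Fintype K] {q : ℕ} (f : K ≃+* K) (hf : ∀ t, f t = t ^ q) :
    ((n0Tw f hf : ↥(twistedE6 K q)) : GL chevE6.Idx K) = nWordsGL chevE6 K n0WordE6 := by
  have e0 : ((sTw f hf 0 : ↥(twistedE6 K q)) : GL chevE6.Idx K) =
      wordGL chevE6 K (chevE6.nWord 56 (1 : K)) * wordGL chevE6 K (chevE6.nWord 36 (1 : K)) := by
    show ((repGenE6 K 0 : ↥(chevE6.monomialSubgroup K)) : GL chevE6.Idx K) = _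
    have : repGenE6 K 0 = nN chevE6 K 56 * nN chevE6 K 36 := by simp [repGenE6]
    rw [this, Subgroup.coe_mul, nN_val chevE6 memE6 56 (by decide), nN_val chevE6 memE6 36 (by decide)]
  have e1 : ((sTw f hf 1 : ↥(twistedE6 K q)) : GL chevE6.Idx K) =
      wordGL chevE6 K (chevE6.nWord 42 (1 : K)) * wordGL chevE6 K (chevE6.nWord 37 (1 : K)) := by
    show ((repGenE6 K 1 : ↥(chevE6.monomialSubgroup K)) : GL chevE6.Idx K) = _
    have : repGenE6 K 1 = nN chevE6 K 42 * nN chevE6 K 37 := by simp [repGenE6]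
    rw [this, Subgroup.coe_mul, nN_val chevE6 memE6 42 (by decide), nN_val chevE6 memE6 37 (by decide)]
  have e2 : ((sTw f hf 2 : ↥(twistedE6 K q)) : GL chevE6.Idx K) =
      wordGL chevE6 K (chevE6.nWord 39 (1 : K)) := by
    show ((repGenE6 K 2 : ↥(chevE6.monomialSubgroup K)) : GL chevE6.Idx K) = _
    have : repGenE6 K 2 = nN chevE6 K 39 := by simp [repGenE6]
    rw [this, nN_val chevE6 memE6 39 (by decide)]
  have e3 : ((sTw f hf 3 : ↥(twistedE6 K q)) : GL chevE6.Idx K) =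
      wordGL chevE6 K (chevE6.nWord 46 (1 : K)) := by
    show ((repGenE6 K 3 : ↥(chevE6.monomialSubgroup K)) : GL chevE6.Idx K) = _
    have : repGenE6 K 3 = nN chevE6 K 46 := by simp [repGenE6]
    rw [this, nN_val chevE6 memE6 46 (by decide)]
  have s0 : chevE6.simple 0 = 56 := rfl
  have s1 : chevE6.simple 1 = 46 := rfl
  have s2 : chevE6.simple 2 = 42 := rfl
  have s3 : chevE6.simple 3 = 39 := rfl
  have s4 : chevE6.simple 4 = 37 := rfl
  have s5 : chevE6.simple 5 = 36 := rfl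
  unfold n0Tw
  rw [Subgroup.coe_pow, Subgroup.coe_mul, Subgroup.coe_mul, Subgroup.coe_mul, e0, e1, e2, e3]
  simp only [nWordsGL, n0WordE6, List.map_cons, List.map_nil, List.prod_cons, List.prod_nil, s0, s1, s2, s3, s4, s5,
    mul_one, pow_succ, pow_zero, one_mul, mul_assoc]

/-- `n₀ U n₀⁻¹ = V` in the ambient group -/
theorem n0_pos_amb {K : Type*} [Field K] :
    cjg (nWordsGL chevE6 K n0WordE6) (chevE6.posUnipotent K) = chevE6.negUnipotent K := by
  have hpos := posOK_of_mem chevE6 memE6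
  have hw0' := n0Word_w0OK
  unfold w0OK at hw0'
  simp only [Bool.and_eq_true, List.all_eq_true, decide_eq_true_eq, beq_iff_eq] at hw0'
  obtain ⟨⟨hw, hfwd⟩, -⟩ := hw0'
  have hnmem := nWordsGL_mem (F := K) chevE6 memE6 n0WordE6 hw
  have hn : chevE6.nroots = hlfOf chevE6 + hlfOf chevE6 := by decide
  apply cjg_pos_eq_neg chevE6 memE6 _ hnmem
  have hle : cjg (nWordsGL chevE6 K n0WordE6) (chevE6.posUnipotent K) ≤ chevE6.negUnipotent K := by
    apply cjg_closure_le chevE6 memE6 (nWordsGL chevE6 K n0WordE6) _ _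
    intro r hr
    have hr' := (isPosRoot_iff chevE6 _ hpos r).mp hr
    refine ⟨rho chevE6 n0WordE6 r, ?_, cjg_word_rootSubgroup chevE6 memE6 n0WordE6 hw r hr'.2⟩
    rw [isNegRoot_iff chevE6 _ hpos]
    have h1 := hfwd r (List.mem_range'_1.mpr ⟨hr'.1, by omega⟩)
    rw [(rhoFast_eq chevE6 reflTabsE6 tabsOK_E6 n0WordE6 hw r hr'.2).1] at h1
    exact ⟨h1, rho_lt chevE6 memE6 n0WordE6 hw r hr'.2⟩
  apply le_antisymm _ bot_le
  rw [← pos_inf_neg' (F := K) chevE6 memE6, inf_comm]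
  exact inf_le_inf_left _ hle

/-- the symmetry of the diagram on the nodes: `n₀` maps `-p_i` to `p_{star i}` -/
def starE6 : ℕ → ℕ := fun i => ([5, 1, 4, 3, 2, 0] : List ℕ).getD i 0

/-- `n₀ X_{-p_i} n₀⁻¹ = X_{p_{star i}}` in the ambient group -/
theorem n0_simple_amb {K : Type*} [Field K] (i : ℕ) (hi : i < 6) :
    cjg (nWordsGL chevE6 K n0WordE6) (chevE6.rootSubgroup K (chevE6.neg (chevE6.simple i))) =
      chevE6.rootSubgroup K (chevE6.simple (starE6 i)) := by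
  have hsim := simpleOK_of_mem chevE6 memE6
  have hst := n0Word_starOK
  unfold starOK at hst
  rw [List.all_eq_true] at hst
  have h1 := hst i (List.mem_range.mpr hi)
  simp only [Bool.and_eq_true, decide_eq_true_eq, beq_iff_eq] at h1
  obtain ⟨⟨-, h3⟩, -⟩ := h1
  have hnl := neg_lt chevE6 memE6 _ (simple_lt chevE6 hsim i hi)
  rw [cjg_word_rootSubgroup chevE6 memE6 n0WordE6 n0Word_lt _ hnl,
    ← (rhoFast_eq chevE6 reflTabsE6 tabsOK_E6 n0WordE6 n0Word_lt _ hnl).1, h3]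
  rfl

/-- PIECE E1: `n₀ ∈ N` -/
theorem n0_mem_E6 {K : Type*} [Field K] [Fintype K] {q : ℕ} (f : K ≃+* K) (hf : ∀ t, f t = t ^ q) :
    ((n0Tw f hf : ↥(twistedE6 K q)) : GL chevE6.Idx K) ∈ chevE6.monomialSubgroup K := by
  rw [n0Tw_val]
  exact nWordsGL_mem (F := K) chevE6 memE6 n0WordE6 n0Word_lt

/-- PIECE E2: `n₀ U¹ n₀⁻¹ = V¹` -/
theorem n0_U_E6 {K : Type*} [Field K] [Fintype K] {q : ℕ} (f : K ≃+* K) (hf : ∀ t, f t = t ^ q) :
    cjg (n0Tw f hf) (U1 K q) = V1 K q := by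
  unfold U1 V1
  rw [cjg_subgroupOf, n0Tw_val, n0_pos_amb]

/-- PIECE E3: `n₀ V¹ n₀⁻¹ = U¹` -/
theorem n0_V_E6 {K : Type*} [Field K] [Fintype K] {q : ℕ} (f : K ≃+* K) (hf : ∀ t, f t = t ^ q) :
    cjg (n0Tw f hf) (V1 K q) = U1 K q := by
  unfold U1 V1
  rw [cjg_subgroupOf, n0Tw_val,
    cjg_n0_neg chevE6 memE6 _ (nWordsGL_mem (F := K) chevE6 memE6 n0WordE6 n0Word_lt) n0_pos_amb]

section Amb

variable {K : Type*} [Field K]

/-- `n₀ x_{-p_i}(t) n₀⁻¹ ∈ X_{p_{star i}}` -/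
theorem n0_conj_neg_mem (i : ℕ) (hi : i < 6) (t : K) :
    nWordsGL chevE6 K n0WordE6 * xGL chevE6 K (chevE6.neg (chevE6.simple i)) t *
      (nWordsGL chevE6 K n0WordE6)⁻¹ ∈ chevE6.rootSubgroup K (chevE6.simple (starE6 i)) := by
  rw [← n0_simple_amb (K := K) i hi]
  exact conj_mem_cjg (Aut.xGL_mem_rootSubgroup chevE6 memE6 _ t)

/-- `n₀⁻¹ x_{p_{star i}}(t) n₀ ∈ X_{-p_i}` -/
theorem n0_conj_pos_mem (i : ℕ) (hi : i < 6) (t : K) :
    (nWordsGL chevE6 K n0WordE6)⁻¹ * xGL chevE6 K (chevE6.simple (starE6 i)) t *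
      nWordsGL chevE6 K n0WordE6 ∈ chevE6.rootSubgroup K (chevE6.neg (chevE6.simple i)) := by
  have h := Aut.xGL_mem_rootSubgroup (F := K) chevE6 memE6 (chevE6.simple (starE6 i)) t
  rw [← n0_simple_amb (K := K) i hi, mem_cjg] at h
  exact h

theorem rootSubgroup_le_list (P : List ℕ) (r : ℕ) (hr : r ∈ P) :
    chevE6.rootSubgroup K r ≤ listSubgroup chevE6 K P := by
  intro g hg
  obtain ⟨t, ht⟩ := mem_rootSubgroup chevE6 memE6 r _ hg
  apply Subgroup.subset_closure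
  refine ⟨r, t, hr, ?_⟩
  rw [ht]
  exact xGL_val chevE6 _ (triOK_of_mem chevE6 memE6) r t

end Amb

section Fix

variable {K : Type*} [Field K] [Fintype K] {q : ℕ} (f : K ≃+* K) (hf : ∀ t, f t = t ^ q)

include hf in
/-- `n₀ X_{-a_i} n₀⁻¹ = X_{a_i}` in the ambient group -/
theorem n0_YA (hK : Fintype.card K = q ^ 2) (i : Fin 2) :
    cjg (nWordsGL chevE6 K n0WordE6) (YA f i) = XA f i := by
  have hle := twistedE6_le_FixE6 f hf hK
  have hn0 : nWordsGL chevE6 K n0WordE6 ∈ FixE6 f := by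
    rw [← n0Tw_val f hf]
    exact hle (n0Tw f hf).2
  set n := nWordsGL chevE6 K n0WordE6 with hn
  -- the two roots of the class, as fundamental roots: `(k, k')` with `star k = k'`
  have hdata : ∃ k k' : ℕ, k < 6 ∧ k' < 6 ∧ starE6 k = k' ∧ starE6 k' = k ∧ chevE6.simple k = pr i ∧
      chevE6.simple k' = pr' i ∧ chevE6.neg (chevE6.simple k) = nr i ∧ chevE6.neg (chevE6.simple k') = nr' i := by
    fin_cases i
    · exact ⟨0, 5, by decide, by decide, rfl, rfl, rfl, rfl, rfl, rfl⟩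
    · exact ⟨2, 4, by decide, by decide, rfl, rfl, rfl, rfl, rfl, rfl⟩
  obtain ⟨k, k', hk, hk', hs, hs', e1, e2, e3, e4⟩ := hdata
  ext x
  rw [mem_cjg, mem_YA, mem_XA]
  constructor
  · rintro ⟨t, ht⟩
    have hx : x = n * ya f i t * n⁻¹ := by rw [← ht]; group
    apply fixJ_pos f hf hK i x
    refine Subgroup.mem_inf.mpr ⟨?_, ?_⟩
    · have e : x = (n * xGL chevE6 K (nr i) t * n⁻¹) * (n * xGL chevE6 K (nr' i) (f t) * n⁻¹) := by
        rw [hx]; unfold ya; group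
      rw [e]
      -- the first factor lies in `X_{r̄}`, the second in `X_r`
      have h1 := n0_conj_neg_mem (K := K) k hk t
      have h2 := n0_conj_neg_mem (K := K) k' hk' (f t)
      rw [hs, e2, e3] at h1
      rw [hs', e1, e4] at h2
      exact mul_mem (rootSubgroup_le_list [pr i, pr' i] (pr' i) (by simp) h1)
        (rootSubgroup_le_list [pr i, pr' i] (pr i) (by simp) h2)
    · rw [hx]
      exact mul_mem (mul_mem hn0 (hle (ya_mem f hf i t))) (inv_mem hn0)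
  · rintro ⟨t, rfl⟩
    apply fixJ_neg f hf hK i
    refine Subgroup.mem_inf.mpr ⟨?_, ?_⟩
    · have e : n⁻¹ * xa f i t * n = (n⁻¹ * xGL chevE6 K (pr i) t * n) * (n⁻¹ * xGL chevE6 K (pr' i) (f t) * n) := by
        unfold xa; group
      rw [e]
      have h1 := n0_conj_pos_mem (K := K) k' hk' t
      have h2 := n0_conj_pos_mem (K := K) k hk (f t)
      rw [hs', e1, e4] at h1
      rw [hs, e2, e3] at h2
      exact mul_mem (rootSubgroup_le_list [nr i, nr' i] (nr' i) (by simp) h1)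
        (rootSubgroup_le_list [nr i, nr' i] (nr i) (by simp) h2)
    · exact mul_mem (mul_mem (inv_mem hn0) (hle (xa_mem f hf i t))) hn0

include hf in
/-- `n₀ X_{-b_j} n₀⁻¹ = X_{b_j}` in the ambient group -/
theorem n0_YB (hK : Fintype.card K = q ^ 2) (j : Fin 2) :
    cjg (nWordsGL chevE6 K n0WordE6) (YB f j) = XB f j := by
  have hle := twistedE6_le_FixE6 f hf hK
  have hn0 : nWordsGL chevE6 K n0WordE6 ∈ FixE6 f := by
    rw [← n0Tw_val f hf]
    exact hle (n0Tw f hf).2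
  set n := nWordsGL chevE6 K n0WordE6 with hn
  have hdata : ∃ k : ℕ, k < 6 ∧ starE6 k = k ∧ chevE6.simple k = sr j ∧ chevE6.neg (chevE6.simple k) = snr j := by
    fin_cases j
    · exact ⟨3, by decide, rfl, rfl, rfl⟩
    · exact ⟨1, by decide, rfl, rfl, rfl⟩
  obtain ⟨k, hk, hs, e1, e2⟩ := hdata
  ext x
  rw [mem_cjg, mem_YB, mem_XB]
  constructor
  · rintro ⟨u, hu, ht⟩
    have hx : x = n * xGL chevE6 K (snr j) u * n⁻¹ := by rw [← ht]; group
    apply fix2_pos f j x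
    refine Subgroup.mem_inf.mpr ⟨?_, ?_⟩
    · rw [hx]
      have h1 := n0_conj_neg_mem (K := K) k hk u
      rwa [hs, e2, e1] at h1
    · rw [hx]
      exact mul_mem (mul_mem hn0 (hle (yb_mem f hf j u hu))) (inv_mem hn0)
  · rintro ⟨u, hu, rfl⟩
    apply fix2_neg f j
    refine Subgroup.mem_inf.mpr ⟨?_, ?_⟩
    · have h1 := n0_conj_pos_mem (K := K) k hk u
      rwa [hs, e2, e1] at h1
    · exact mul_mem (mul_mem (inv_mem hn0) (hle (xb_mem f hf j u hu))) hn0

end Fix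

/-- PIECE J: `n₀ X_{-a} n₀⁻¹ = X_a` for the four nodes of the twisted diagram -/
theorem Xp_eq_E6 {K : Type*} [Field K] [Fintype K] {q : ℕ} (f : K ≃+* K) (hf : ∀ t, f t = t ^ q)
    (hK : Fintype.card K = q ^ 2) (a : Fin 4) :
    cjg (n0Tw f hf) (XmTw f q a) = XpTw f q a := by
  unfold XmTw XpTw
  rw [cjg_subgroupOf, n0Tw_val]
  fin_cases a
  · exact congrArg (fun S => Subgroup.subgroupOf S (twistedE6 K q)) (n0_YA f hf hK 0)
  · exact congrArg (fun S => Subgroup.subgroupOf S (twistedE6 K q)) (n0_YA f hf hK 1)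
  · exact congrArg (fun S => Subgroup.subgroupOf S (twistedE6 K q)) (n0_YB f hf hK 0)
  · exact congrArg (fun S => Subgroup.subgroupOf S (twistedE6 K q)) (n0_YB f hf hK 1)

end Cfsg.Agent.Helper36.TwE6
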