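import Mathlib
import Cfsg.Prelude.Def_KGroupFacts

/-!
Helper36: an abstract count of the outer automorphism group: if a subgroup `N` of `Aut G` meets every coset of
`Inn G`, then `|Out G| · |N ∩ Inn G| = |N|`.
-/

set_option autoImplicit false

namespace Cfsg.Agent.Helper36.TwE6

open Cfsg

theorem card_out_mul_card_inf {G : Type*} [Group G] (N : Subgroup (MulAut G))
    (hcover : ∀ θ : MulAut G, ∃ g : G, MulAut.conj g * θ ∈ N) :
    Nat.card (Cfsg.Out G) * Nat.card ↥(N ⊓ Cfsg.Inn G) = Nat.card ↥N := by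
  let φ : ↥N →* Cfsg.Out G := (QuotientGroup.mk' (Cfsg.Inn G)).comp N.subtype
  have hsurj : Function.Surjective φ := by
    intro o
    obtain ⟨θ, rfl⟩ := QuotientGroup.mk'_surjective (Cfsg.Inn G) o
    obtain ⟨g, hg⟩ := hcover θ
    refine ⟨⟨MulAut.conj g * θ, hg⟩, ?_⟩
    show QuotientGroup.mk' (Cfsg.Inn G) (MulAut.conj g * θ) = QuotientGroup.mk' (Cfsg.Inn G) θ
    rw [map_mul]
    have : QuotientGroup.mk' (Cfsg.Inn G) (MulAut.conj g) = 1 :=
      (QuotientGroup.eq_one_iff _).mpr ⟨g, rfl⟩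
    rw [this, one_mul]
  have hker : φ.ker = (Cfsg.Inn G).subgroupOf N := by
    ext x
    rw [MonoidHom.mem_ker, Subgroup.mem_subgroupOf]
    show QuotientGroup.mk' (Cfsg.Inn G) (x : MulAut G) = 1 ↔ _
    exact QuotientGroup.eq_one_iff _
  have h1 : Nat.card ↥N = Nat.card (↥N ⧸ φ.ker) * Nat.card ↥φ.ker :=
    Subgroup.card_eq_card_quotient_mul_card_subgroup φ.ker
  have h2 : Nat.card (↥N ⧸ φ.ker) = Nat.card (Cfsg.Out G) :=
    Nat.card_congr (QuotientGroup.quotientKerEquivOfSurjective φ hsurj).toEquiv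
  have h3 : Nat.card ↥φ.ker = Nat.card ↥(N ⊓ Cfsg.Inn G) := by
    rw [hker]
    have e : (Cfsg.Inn G).subgroupOf N = (N ⊓ Cfsg.Inn G).subgroupOf N := by
      ext x
      simp [Subgroup.mem_subgroupOf]
    rw [e]
    exact Nat.card_congr (Subgroup.subgroupOfEquivOfLe (inf_le_left : N ⊓ Cfsg.Inn G ≤ N)).toEquiv
  rw [h1, h2, h3]

end Cfsg.Agent.Helper36.TwE6
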