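import Cfsg.Agent.Helper36.TwE6.Sub
import Cfsg.Agent.Helper19.Twist.Frob

/-!
Helper18 / twisted D4 automorphisms, PIECE B (the Borel subgroup of `G¹`).
-/

set_option autoImplicit false
set_option maxRecDepth 100000

namespace Cfsg.Agent.Helper36.TwE6

open Cfsg Cfsg.Lie Cfsg.Agent.Helper18 Cfsg.Agent.Helper18.Aut Cfsg.Agent.Helper19.Twist
  Cfsg.Agent.Helper19.Poinc Cfsg.Agent.Helper19.Cox Cfsg.Agent.S1081 Cfsg.Agent.Helper6
  Cfsg.Agent.Helper40.SL2Hom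

/-- PIECE B0: `B¹ = U¹ H¹`: an element of `B ∩ G¹` is `u * h` with `u ∈ U ∩ G¹`, `h ∈ H ∩ G¹`.
Hint: `b = u h` in the ambient group (`mem_borel_decomp`), `σ = sigE6 f` fixes `b` (`twistedE6_le_FixE6`),
`σ U = U`, `σ H = H` (`sigmaGL_posUnipotent`, `sigmaGL_diagonalSubgroup`), `U ∩ H = 1`, so `σ u = u`;
then `u ∈ G¹` by `U_fix_le_E6`. -/
theorem B1_decomp {K : Type*} [Field K] [Fintype K] {q : ℕ} (f : K ≃+* K) (hf : ∀ t, f t = t ^ q)
    (hq : 1 ≤ q) (hK : Fintype.card K = q ^ 2) (b : GL chevE6.Idx K)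
    (hb : b ∈ chevE6.borelSubgroup K) (hbG : b ∈ twistedE6 K q) :
    ∃ u ∈ chevE6.posUnipotent K, ∃ h ∈ chevE6.diagonalSubgroup K,
      u ∈ twistedE6 K q ∧ h ∈ twistedE6 K q ∧ b = u * h := by
  obtain ⟨u, hu, h, hh, e⟩ := mem_borel_decomp chevE6 memE6 b hb
  have hfix : sigE6 f b = b := (mem_FixE6 f b).mp (twistedE6_le_FixE6 f hf hK hbG)
  have hσu : sigE6 f u ∈ chevE6.posUnipotent K :=
    sigmaGL_posUnipotent chevE6 rho0 rhoInv0 pi0 piInv0 eps0 permsOK_E6 f memE6 allOK0 twistOK_E6 u hu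
  have hσh : sigE6 f h ∈ chevE6.diagonalSubgroup K :=
    sigmaGL_diagonalSubgroup chevE6 rho0 rhoInv0 pi0 piInv0 eps0 permsOK_E6 f memE6 isoOK_E6 h hh
  -- `u⁻¹ σ(u) = h σ(h)⁻¹ ∈ U ∩ H = 1`
  have e2 : sigE6 f u * sigE6 f h = u * h := by rw [← map_mul, ← e, hfix]
  have e3 : u⁻¹ * sigE6 f u = h * (sigE6 f h)⁻¹ := by
    have : sigE6 f u = u * h * (sigE6 f h)⁻¹ := by rw [← e2]; group
    rw [this]; group
  have hUH : chevE6.posUnipotent K ⊓ chevE6.diagonalSubgroup K = ⊥ := by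
    apply le_antisymm _ bot_le
    intro x hx
    have hx1 : x ∈ chevE6.posUnipotent K := (Subgroup.mem_inf.mp hx).1
    have hx2 : x ∈ chevE6.diagonalSubgroup K := (Subgroup.mem_inf.mp hx).2
    -- conjugate by the longest element into `V ∩ B`
    obtain ⟨n₀, star, hn₀, hn₀U, -, -⟩ := exists_longest_star (F := K) chevE6 memE6
    have h1 : n₀ * x * n₀⁻¹ ∈ chevE6.negUnipotent K := by
      rw [← hn₀U]
      exact conj_mem_cjg hx1
    have h2 : n₀ * x * n₀⁻¹ ∈ chevE6.diagonalSubgroup K := by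
      have hnorm := Cfsg.Agent.S1038.result (F := K) chevE6 memE6
      have := hnorm.conj_mem ⟨x, diagonalSubgroup_le_monomialSubgroup chevE6 hx2⟩
        (Subgroup.mem_subgroupOf.mpr hx2) ⟨n₀, hn₀⟩
      exact Subgroup.mem_subgroupOf.mp this
    have h3 : n₀ * x * n₀⁻¹ ∈ chevE6.borelSubgroup K ⊓ chevE6.negUnipotent K :=
      Subgroup.mem_inf.mpr ⟨diagonal_le_borel chevE6 memE6 h2, h1⟩
    rw [(Cfsg.Agent.S1037.result (F := K) chevE6 memE6).1, Subgroup.mem_bot] at h3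
    rw [Subgroup.mem_bot]
    have : x = n₀⁻¹ * (n₀ * x * n₀⁻¹) * n₀ := by group
    rw [this, h3]; group
  have h4 : u⁻¹ * sigE6 f u ∈ chevE6.posUnipotent K ⊓ chevE6.diagonalSubgroup K := by
    refine Subgroup.mem_inf.mpr ⟨mul_mem (inv_mem hu) hσu, ?_⟩
    rw [e3]
    exact mul_mem hh (inv_mem hσh)
  rw [hUH, Subgroup.mem_bot] at h4
  have hσu' : sigE6 f u = u := by
    have : sigE6 f u = u * (u⁻¹ * sigE6 f u) := by group
    rw [this, h4, mul_one]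
  have huG : u ∈ twistedE6 K q :=
    U_fix_le_E6 f hf h31E6 hq hK (Subgroup.mem_inf.mpr ⟨hu, (mem_FixE6 f u).mpr hσu'⟩)
  have hhG : h ∈ twistedE6 K q := by
    have : h = u⁻¹ * b := by rw [e]; group
    rw [this]
    exact mul_mem (inv_mem huG) hbG
  exact ⟨u, hu, h, hh, huG, hhG, e⟩

/-- PIECE C1: `B¹` normalises `U¹` (no need of B0: `cjg_borel_pos`, `cjg_subgroupOf`) -/
theorem U_norm_E6 {K : Type*} [Field K] {q : ℕ} (b : ↥(twistedE6 K q))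
    (hb : (b : GL chevE6.Idx K) ∈ chevE6.borelSubgroup K) :
    cjg b (U1 K q) = U1 K q := by
  unfold U1
  rw [cjg_subgroupOf, cjg_borel_pos chevE6 memE6 _ hb]

/-- PIECE G: `B¹`-conjugates of `V¹` are `U¹`-conjugates (from B0 and `cjg_diag_neg`) -/
theorem V_conj_E6 {K : Type*} [Field K] [Fintype K] {q : ℕ} (hq : IsPrimePow q) (hK : Fintype.card K = q ^ 2)
    (b : ↥(twistedE6 K q)) (hb : (b : GL chevE6.Idx K) ∈ chevE6.borelSubgroup K) :
    ∃ u ∈ U1 K q, cjg b (V1 K q) = cjg u (V1 K q) := by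
  obtain ⟨f, hf⟩ := exists_frob hq hK
  obtain ⟨u, hu, h, hh, huG, hhG, e⟩ := B1_decomp f hf hq.one_lt.le hK b hb b.2
  refine ⟨⟨u, huG⟩, Subgroup.mem_subgroupOf.mpr hu, ?_⟩
  have eb : b = (⟨u, huG⟩ : ↥(twistedE6 K q)) * ⟨h, hhG⟩ := Subtype.ext e
  have h1 : cjg (⟨h, hhG⟩ : ↥(twistedE6 K q)) (V1 K q) = V1 K q := by
    unfold V1
    rw [cjg_subgroupOf]
    show (cjg h (chevE6.negUnipotent K)).subgroupOf _ = _
    rw [cjg_diag_neg chevE6 memE6 h hh]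
  rw [eb, cjg_mul, h1]

end Cfsg.Agent.Helper36.TwE6
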