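import Cfsg.Agent.Helper36.TwE6.P_Fix

/-!
Helper36 / twisted E6 automorphisms (S2130), PIECE PA (the rank one parabolic subgroups).
Model: `Cfsg/Agent/Helper18/Tw/P_Para.lean` (the same statement for `³D₄`).
(Proof: helper53, port of the `³D₄` version.)
-/

set_option autoImplicit false
set_option maxRecDepth 100000

namespace Cfsg.Agent.Helper36.TwE6

open Cfsg Cfsg.Lie Cfsg.Agent.Helper18 Cfsg.Agent.Helper18.Aut Cfsg.Agent.Helper19.Twist
  Cfsg.Agent.Helper19.Poinc Cfsg.Agent.Helper19.Cox Cfsg.Agent.S1081 Cfsg.Agent.Helper6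
  Cfsg.Agent.Helper40.SL2Hom

theorem PA_roots0 : ∀ r < 72, 36 ≤ r →
    actW reflTabsE6 6 72 [0, 5] r < 36 → r = 56 ∨ r = 36 := by
  decide +kernel

theorem PA_roots1 : ∀ r < 72, 36 ≤ r →
    actW reflTabsE6 6 72 [2, 4] r < 36 → r = 42 ∨ r = 37 := by
  decide +kernel

theorem PA_roots2 : ∀ r < 72, 36 ≤ r →
    actW reflTabsE6 6 72 [3] r < 36 → r = 39 := by
  decide +kernel

theorem PA_roots3 : ∀ r < 72, 36 ≤ r →
    actW reflTabsE6 6 72 [1] r < 36 → r = 46 := by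
  decide +kernel

theorem PA_UnegW_a {K : Type*} [Field K] (i : Fin 2) :
    UnegW chevE6 Cfsg.Agent.Helper19.Poinc.certE6 K
      (gp Cfsg.Agent.Helper19.Poinc.certE6.M (JE6 ((Fin.castLE (by decide) i : Fin 4) : ℕ))) ≤
      listSubgroup chevE6 K [pr i, pr' i] := by
  unfold UnegW
  rw [Subgroup.closure_le]
  rintro x ⟨r, t, ⟨hr1, hr2⟩, hphi, rfl⟩
  rw [phi_gp] at hphi
  apply Subgroup.subset_closure
  refine ⟨r, t, ?_, xGL_val chevE6 _ (triOK_of_mem chevE6 memE6) r t⟩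
  fin_cases i
  · have h := PA_roots0 r hr2 hr1 hphi
    rcases h with rfl | rfl <;> simp [pr, pr']
  · have h := PA_roots1 r hr2 hr1 hphi
    rcases h with rfl | rfl <;> simp [pr, pr']

theorem PA_UnegW_b {K : Type*} [Field K] (j : Fin 2) :
    UnegW chevE6 Cfsg.Agent.Helper19.Poinc.certE6 K
      (gp Cfsg.Agent.Helper19.Poinc.certE6.M (JE6 ((Fin.natAdd 2 j : Fin 4) : ℕ))) ≤
      chevE6.rootSubgroup K (sr j) := by
  unfold UnegW
  rw [Subgroup.closure_le]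
  rintro x ⟨r, t, ⟨hr1, hr2⟩, hphi, rfl⟩
  rw [phi_gp] at hphi
  fin_cases j
  · have h := PA_roots2 r hr2 hr1 hphi
    subst h
    exact Cfsg.Agent.Helper18.Aut.xGL_mem_rootSubgroup chevE6 memE6 39 t
  · have h := PA_roots3 r hr2 hr1 hphi
    subst h
    exact Cfsg.Agent.Helper18.Aut.xGL_mem_rootSubgroup chevE6 memE6 46 t

/-- the rank one relation `n x(t) = x(-t⁻¹) h(-t⁻¹) y(t⁻¹)` -/
theorem PA_rank_one {F Γ : Type*} [Field F] [Group Γ] {x y : F → Γ} (R : Rel x y) (t : F) (ht : t ≠ 0) :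
    w x y 1 * x t = x (-t⁻¹) * h x y (-t⁻¹) * y t⁻¹ := by
  have h1 := R.n_x_n t ht
  have h2 := R.conj 1 (-t⁻¹) one_ne_zero
  have e : -((1 : F)⁻¹ * 1⁻¹ * -t⁻¹) = t⁻¹ := by simp
  rw [e] at h2
  calc w x y 1 * x t = (w x y 1 * x t * w x y 1) * (w x y 1)⁻¹ := by group
    _ = x (-t⁻¹) * h x y (-t⁻¹) * (w x y 1 * x (-t⁻¹) * (w x y 1)⁻¹) := by rw [h1]; group
    _ = _ := by rw [h2]

/-- the abstract end of the argument -/
theorem PA_endgame {F Γ : Type*} [Field F] [Group Γ] {x y : F → Γ} (R : Rel x y) (G1 Bo : Subgroup Γ)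
    (hx : ∀ t, x t ∈ Bo) (hh : ∀ t, t ≠ 0 → h x y t ∈ Bo) (hn : w x y 1 ∈ G1)
    (g b : Γ) (hg : g ∈ G1) (hb : b ∈ Bo) (t : F) (hy : y t⁻¹ ∈ G1) (e : g = b * w x y 1 * x t) :
    (∃ b' ∈ Bo ⊓ G1, g = b' * w x y 1) ∨ (∃ b' ∈ Bo ⊓ G1, g = b' * y t⁻¹) := by
  by_cases ht : t = 0
  · left
    subst ht
    rw [R.x_zero, mul_one] at e
    refine ⟨b, Subgroup.mem_inf.mpr ⟨hb, ?_⟩, e⟩
    have : b = g * (w x y 1)⁻¹ := by rw [e]; group
    rw [this]
    exact Subgroup.mul_mem _ hg (Subgroup.inv_mem _ hn)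
  · right
    have e2 : g = b * x (-t⁻¹) * h x y (-t⁻¹) * y t⁻¹ := by
      rw [e, mul_assoc b, PA_rank_one R t ht]; group
    have hne : -t⁻¹ ≠ 0 := neg_ne_zero.mpr (inv_ne_zero ht)
    refine ⟨b * x (-t⁻¹) * h x y (-t⁻¹), Subgroup.mem_inf.mpr ⟨Subgroup.mul_mem _ (Subgroup.mul_mem _ hb (hx _)) (hh _ hne), ?_⟩, e2⟩
    have : b * x (-t⁻¹) * h x y (-t⁻¹) = g * (y t⁻¹)⁻¹ := by rw [e2]; group
    rw [this]
    exact Subgroup.mul_mem _ hg (Subgroup.inv_mem _ hy)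

theorem PA_pos_borel {K : Type*} [Field K] (r : ℕ) (hr : hlfOf chevE6 ≤ r ∧ r < chevE6.nroots) (t : K) :
    xGL chevE6 K r t ∈ chevE6.borelSubgroup K :=
  Cfsg.Agent.Helper18.posUnipotent_le_borel chevE6 memE6
    (Cfsg.Agent.Helper18.xGL_mem_posUnipotent chevE6 memE6 r hr t)

theorem PA_xa_borel {K : Type*} [Field K] (f : K ≃+* K) (i : Fin 2) (t : K) :
    xa f i t ∈ chevE6.borelSubgroup K := by
  unfold xa
  fin_cases i
  · exact mul_mem (PA_pos_borel 56 (by decide) _) (PA_pos_borel 36 (by decide) _)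
  · exact mul_mem (PA_pos_borel 42 (by decide) _) (PA_pos_borel 37 (by decide) _)

theorem PA_ha_borel {K : Type*} [Field K] (f : K ≃+* K) (i : Fin 2) (t : K) (ht : t ≠ 0) :
    h (xa f i) (ya f i) t ∈ chevE6.borelSubgroup K := by
  apply Cfsg.Agent.Helper18.diagonal_le_borel chevE6 memE6
  rw [h_a_eq f i t ht]
  have h1 : f t ≠ 0 := by simpa using ht
  exact mul_mem (hG_mem chevE6 memE6 (pr i) (pr_lt i) t ht) (hG_mem chevE6 memE6 (pr' i) (pr'_lt i) _ h1)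

theorem PA_hb_borel {K : Type*} [Field K] (j : Fin 2) (t : K) (ht : t ≠ 0) :
    h (xGL chevE6 K (sr j)) (xGL chevE6 K (snr j)) t ∈ chevE6.borelSubgroup K := by
  apply Cfsg.Agent.Helper18.diagonal_le_borel chevE6 memE6
  rw [h_b_eq j t ht]
  exact hG_mem chevE6 memE6 (sr j) (sr_lt j) t ht

/-- the ambient form of the rank one decomposition -/
theorem PA_ambient {K : Type*} [Field K] [Fintype K] {q : ℕ} (f : K ≃+* K) (hf : ∀ t, f t = t ^ q)
    (hK : Fintype.card K = q ^ 2) (a : Fin 4) (g b1 b2 : GL chevE6.Idx K) (hg : g ∈ twistedE6 K q)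
    (hb1 : b1 ∈ chevE6.borelSubgroup K) (hb2 : b2 ∈ chevE6.borelSubgroup K)
    (e : g = b1 * ((sTw f hf a : ↥(twistedE6 K q)) : GL chevE6.Idx K) * b2) :
    (∃ b ∈ chevE6.borelSubgroup K ⊓ twistedE6 K q, g = b * ((sTw f hf a : ↥(twistedE6 K q)) : GL chevE6.Idx K)) ∨
    (∃ b ∈ chevE6.borelSubgroup K ⊓ twistedE6 K q, ∃ y ∈ XmAmb f a, g = b * y) := by
  have hs_coe : ((sTw f hf a : ↥(twistedE6 K q)) : GL chevE6.Idx K) =
      ((repGenE6 K a.val : ↥(chevE6.monomialSubgroup K)) : GL chevE6.Idx K) := rfl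
  have hgdc : g ∈ DCgl chevE6 memE6 Cfsg.Agent.Helper19.Poinc.certE6 h31E6
      (theta chevE6 memE6 Cfsg.Agent.Helper19.Poinc.certE6 h31E6 (repGenE6 K a.val)) :=
    ⟨repGenE6 K a.val, theta_spec chevE6 memE6 Cfsg.Agent.Helper19.Poinc.certE6 h31E6 _,
      DoubleCoset.mem_doubleCoset.mpr ⟨b1, hb1, b2, hb2, by rw [e, hs_coe]⟩⟩
  have hgG : g ∈ chevE6.group K := genSubgroup_le_group memE6 _ hg
  have hgfix : sigmaGL chevE6 rho0 rhoInv0 pi0 piInv0 eps0 permsOK_E6 f g = g := twistedE6_le_FixE6 f hf hK hg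
  obtain ⟨w₀, hgw, -, hform⟩ := fixed_normal_form_dc chevE6 memE6 Cfsg.Agent.Helper19.Poinc.certE6 h31E6 rho0 rhoInv0
    pi0 piInv0 eps0 permsOK_E6 f allOK0 twistOK_E6 isoOK_E6 rootInjOK_E6 h42E6 h45E6 g hgG hgfix
  have hw := DCgl_disjoint chevE6 memE6 Cfsg.Agent.Helper19.Poinc.certE6 h31E6 h42E6 _ _ _ hgw hgdc
  obtain ⟨b, hb, u, hu, e2⟩ := hform (repGenE6 K a.val) hw.symm
    (twistedE6_le_FixE6 f hf hK (repGenE6_mem f hf a.val))
  rw [hw, theta_repGenE6 h31E6 a.val a.2] at hu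
  rw [← hs_coe] at e2
  have ha : (∃ i : Fin 2, a = Fin.castLE (by decide) i) ∨ (∃ j : Fin 2, a = Fin.natAdd 2 j) := by
    fin_cases a
    · left; exact ⟨0, rfl⟩
    · left; exact ⟨1, rfl⟩
    · right; exact ⟨0, rfl⟩
    · right; exact ⟨1, rfl⟩
  rcases ha with ⟨i, rfl⟩ | ⟨j, rfl⟩
  · -- the classes of size two
    obtain ⟨t, rfl⟩ := fixJ_pos f hf hK i u ⟨PA_UnegW_a i hu.1, hu.2⟩
    rw [sTw_a_eq f hf i] at e2 ⊢
    have hn : w (xa f i) (ya f i) 1 ∈ twistedE6 K q := by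
      rw [← sTw_a_eq f hf i]; exact (sTw f hf _).2
    rcases PA_endgame (rel_a f i) (twistedE6 K q) (chevE6.borelSubgroup K) (PA_xa_borel f i)
      (PA_ha_borel f i) hn g b hg hb.1 t (ya_mem f hf i _) e2 with h1 | ⟨b', hb', e3⟩
    · left; exact h1
    · right
      refine ⟨b', hb', ya f i t⁻¹, ?_, e3⟩
      have : XmAmb f (Fin.castLE (by decide) i) = YA f i := by
        fin_cases i <;> rfl
      rw [this]
      exact (mem_YA f i _).mpr ⟨_, rfl⟩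
  · -- the fixed nodes
    obtain ⟨t, ht, rfl⟩ := fix2_pos f j u ⟨PA_UnegW_b j hu.1, hu.2⟩
    rw [sTw_b_eq f hf j] at e2 ⊢
    have hn : w (xGL chevE6 K (sr j)) (xGL chevE6 K (snr j)) 1 ∈ twistedE6 K q := by
      rw [← sTw_b_eq f hf j]; exact (sTw f hf _).2
    have ht' : f t⁻¹ = t⁻¹ := by rw [map_inv₀, ht]
    have hR : Rel (xGL chevE6 K (sr j)) (xGL chevE6 K (snr j)) := by
      have := relE (K := K) (sr j) (sr_lt j)
      rwa [neg_sr] at this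
    have hsr : hlfOf chevE6 ≤ sr j ∧ sr j < chevE6.nroots := by
      fin_cases j <;> decide
    rcases PA_endgame hR (twistedE6 K q) (chevE6.borelSubgroup K)
      (fun s => PA_pos_borel (sr j) hsr s)
      (PA_hb_borel j) hn g b hg hb.1 t (yb_mem f hf j _ ht') e2 with h1 | ⟨b', hb', e3⟩
    · left; exact h1
    · right
      refine ⟨b', hb', xGL chevE6 K (snr j) t⁻¹, ?_, e3⟩
      have : XmAmb f (Fin.natAdd 2 j) = YB f j := by
        fin_cases j <;> rfl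
      rw [this]
      exact (mem_YB f j _).mpr ⟨_, ht', rfl⟩

theorem PA_XmAmb_le {K : Type*} [Field K] [Fintype K] {q : ℕ} (f : K ≃+* K) (hf : ∀ t, f t = t ^ q) (a : Fin 4) :
    XmAmb f a ≤ twistedE6 K q := by
  fin_cases a
  · exact YA_le f hf 0
  · exact YA_le f hf 1
  · exact YB_le f hf 0
  · exact YB_le f hf 1

/-- PIECE PA: the rank one decomposition `P_a = B ∪ B s_a ∪ B X_{-a}`.
Hint: `parabolic_singleton`: `g ∈ B¹` or `g ∈ B¹ s_a B¹`. In the second case `g` lies in the ambient double coset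
`DCgl (theta s_a)`; by `fixed_normal_form_dc` (+ `DCgl_disjoint`) `g = b s_a u` with `u ∈ UnegW (theta s_a) ⊓ Fix`,
and `UnegW (theta s_a)` is the product of the root subgroups of the class of `a` (`theta_repGenE6`, `phi_gp`, `decide`),
so `u = x_a(t)` by `fixJ_pos` (resp. `fix2_pos`). If `t = 0`: second alternative. Otherwise by the rank one relations
(`rel_a`, `sTw_a_eq`) `s_a x_a(t) = x_a(-t⁻¹) h_a(-t⁻¹) x_{-a}(t⁻¹)`, and `x_a(..) h_a(..) ∈ B ∩ G¹` (`h_a_eq`, `hG_mem`). -/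
theorem para_E6 {K : Type*} [Field K] [Fintype K] {q : ℕ} (f : K ≃+* K) (hf : ∀ t, f t = t ^ q)
    (hq : IsPrimePow q) (hK : Fintype.card K = q ^ 2) (P : BNPair ↥(twistedE6 K q))
    (hB : P.B = (chevE6.borelSubgroup K ⊓ twistedE6 K q).subgroupOf (twistedE6 K q))
    (hN : P.N = (chevE6.monomialSubgroup K ⊓ twistedE6 K q).subgroupOf (twistedE6 K q))
    (hS : P.S = Set.range (sTw f hf)) (a : Fin 4) (g : ↥(twistedE6 K q)) (hg : g ∈ P.parabolic {sTw f hf a}) :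
    g ∈ P.B ∨ (∃ b ∈ P.B, g = b * sTw f hf a) ∨ (∃ b ∈ P.B, ∃ y ∈ XmTw f q a, g = b * y) := by
  have hsS : sTw f hf a ∈ P.S := by rw [hS]; exact ⟨a, rfl⟩
  have hpar := parabolic_singleton (P := P) hsS
  have hg' : g ∈ (P.B : Set ↥(twistedE6 K q)) ∪ dc P (sTw f hf a) := by rw [← hpar]; exact hg
  rcases hg' with hgB | hgdc
  · left; exact hgB
  right
  obtain ⟨b1, hb1, b2, hb2, e⟩ := (mem_dc P).mp hgdc
  rw [hB, Subgroup.mem_subgroupOf] at hb1 hb2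
  have e' : (g : GL chevE6.Idx K) = b1 * ((sTw f hf a : ↥(twistedE6 K q)) : GL chevE6.Idx K) * b2 := by
    rw [e]; rfl
  rcases PA_ambient f hf hK a g b1 b2 g.2 hb1.1 hb2.1 e' with ⟨b, hb, e2⟩ | ⟨b, hb, y, hy, e2⟩
  · left
    refine ⟨⟨b, hb.2⟩, ?_, Subtype.ext e2⟩
    rw [hB, Subgroup.mem_subgroupOf]
    exact hb
  · right
    have hyG : y ∈ twistedE6 K q := PA_XmAmb_le f hf a hy
    refine ⟨⟨b, hb.2⟩, ?_, ⟨y, hyG⟩, ?_, Subtype.ext e2⟩
    · rw [hB, Subgroup.mem_subgroupOf]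
      exact hb
    · unfold XmTw
      rw [Subgroup.mem_subgroupOf]
      exact hy

end Cfsg.Agent.Helper36.TwE6
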