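import Cfsg.Agent.Helper36.TwE6.P_Fix

/-!
Helper36 / twisted E6 automorphisms (S2130), PIECE SM (small facts on the fundamental root subgroups of `G¹`).
Model: `Cfsg/Agent/Helper18/Tw/P_Small.lean` (the same statements for `³D₄`).
All of them follow from `rel_a`, `sTw_a_eq`, `sTw_b_eq` (file `P_Rel`), `relE`, and `U ∩ V = 1`.
The nodes of the twisted diagram: `0 = {p₁,p₆}`, `1 = {p₃,p₅}` (root elements `xa f 0`, `xa f 1`),
`2 = p₄`, `3 = p₂` (root elements `xGL chevE6 K (sr 0)`, `xGL chevE6 K (sr 1)` with parameter in the fixed field).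
`XpTw f q a = (XpAmb f a).subgroupOf _`, `XpAmb f = ![XA f 0, XA f 1, XB f 0, XB f 1]` (use `fin_cases a`).
(Proofs: helper51.)
-/

set_option autoImplicit false
set_option maxRecDepth 100000

namespace Cfsg.Agent.Helper36.TwE6

open Cfsg Cfsg.Lie Cfsg.Agent.Helper18 Cfsg.Agent.Helper18.Aut Cfsg.Agent.Helper19.Twist
  Cfsg.Agent.Helper19.Poinc Cfsg.Agent.Helper19.Cox Cfsg.Agent.S1081 Cfsg.Agent.Helper6
  Cfsg.Agent.Helper40.SL2Hom

section SMaux

variable {K : Type*} [Field K]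

theorem SM_isPos (r : ℕ) (h1 : 36 ≤ r) (h2 : r < 72) : chevE6.IsPosRoot r :=
  (isPosRoot_iff chevE6 _ (posOK_of_mem chevE6 memE6) r).mpr ⟨h1, h2⟩

/-- positive root elements lie in `U` -/
theorem SM_pos (r : ℕ) (h1 : 36 ≤ r) (h2 : r < 72) (u : K) :
    xGL chevE6 K r u ∈ chevE6.posUnipotent K :=
  rootSubgroup_le_pos chevE6 r (SM_isPos r h1 h2)
    (Cfsg.Agent.Helper18.Aut.xGL_mem_rootSubgroup chevE6 memE6 r u)

/-- negative root elements lie in `V` -/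
theorem SM_neg (r : ℕ) (h1 : 36 ≤ r) (h2 : r < 72) (u : K) :
    xGL chevE6 K (chevE6.neg r) u ∈ chevE6.negUnipotent K :=
  rootSubgroup_le_neg chevE6 _ (neg_of_pos chevE6 memE6 r (SM_isPos r h1 h2))
    (Cfsg.Agent.Helper18.Aut.xGL_mem_rootSubgroup chevE6 memE6 _ u)

theorem SM_pr_ge (i : Fin 2) : 36 ≤ pr i := by fin_cases i <;> decide
theorem SM_pr'_ge (i : Fin 2) : 36 ≤ pr' i := by fin_cases i <;> decide
theorem SM_sr_ge (j : Fin 2) : 36 ≤ sr j := by fin_cases j <;> decide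
theorem SM_pr_lt (i : Fin 2) : pr i < 72 := by fin_cases i <;> decide
theorem SM_pr'_lt (i : Fin 2) : pr' i < 72 := by fin_cases i <;> decide
theorem SM_sr_lt (j : Fin 2) : sr j < 72 := by fin_cases j <;> decide

theorem SM_xa_pos (f : K ≃+* K) (i : Fin 2) (t : K) : xa f i t ∈ chevE6.posUnipotent K :=
  mul_mem (SM_pos _ (SM_pr_ge i) (SM_pr_lt i) _) (SM_pos _ (SM_pr'_ge i) (SM_pr'_lt i) _)

theorem SM_ya_neg (f : K ≃+* K) (i : Fin 2) (t : K) : ya f i t ∈ chevE6.negUnipotent K := by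
  unfold ya
  rw [← neg_pr, ← neg_pr']
  exact mul_mem (SM_neg _ (SM_pr_ge i) (SM_pr_lt i) _) (SM_neg _ (SM_pr'_ge i) (SM_pr'_lt i) _)

theorem SM_xb_pos (j : Fin 2) (u : K) : xGL chevE6 K (sr j) u ∈ chevE6.posUnipotent K :=
  SM_pos _ (SM_sr_ge j) (SM_sr_lt j) _

theorem SM_yb_neg (j : Fin 2) (u : K) : xGL chevE6 K (snr j) u ∈ chevE6.negUnipotent K := by
  rw [← neg_sr]
  exact SM_neg _ (SM_sr_ge j) (SM_sr_lt j) _

/-- the rank one relations for the fixed nodes -/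
theorem SM_rel_b (j : Fin 2) : Rel (xGL chevE6 K (sr j)) (xGL chevE6 K (snr j)) := by
  have := relE (K := K) (sr j) (sr_lt j)
  rwa [neg_sr] at this

/-- a rank one system whose positive elements lie in `U`, negative elements in `V`: `y v = 1` only for `v = 0`
is not needed; what we use: `x 1` and `y (-1)` do not commute as soon as `x 1 ∉ V`. -/
theorem SM_ncomm_of_rel {Γ : Type*} [Group Γ] (x y : K → Γ) (R : Rel x y) (V : Subgroup Γ)
    (hy : ∀ v, y v ∈ V) (hx : x 1 ∉ V) : x 1 * y (-1) ≠ y (-1) * x 1 := by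
  intro hc
  apply hx
  have h1 := R.conj 1 1 one_ne_zero
  have hw : w x y 1 = x 1 * y (-1) * x 1 := by
    show x 1 * y (-(1 : K)⁻¹) * x 1 = _
    simp
  have hcm : Commute (x 1) (y (-1)) := hc
  have hcw : Commute (x 1 * y (-1) * x 1) (x 1) :=
    ((Commute.refl (x 1)).mul_left hcm.symm).mul_left (Commute.refl (x 1))
  have h2 : w x y 1 * x 1 * (w x y 1)⁻¹ = x 1 := by
    rw [hw, hcw.eq, mul_inv_cancel_right]
  rw [h2] at h1
  rw [h1]
  exact hy _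

theorem SM_xb_not_neg (j : Fin 2) : xGL chevE6 K (sr j) (1 : K) ∉ chevE6.negUnipotent K := by
  intro h
  have h1 : xGL chevE6 K (sr j) (1 : K) ∈ chevE6.posUnipotent K ⊓ chevE6.negUnipotent K :=
    ⟨SM_xb_pos j 1, h⟩
  rw [pos_inf_neg' chevE6 memE6, Subgroup.mem_bot, xGL_eq_one_iff chevE6 memE6 _ (sr_lt j)] at h1
  exact one_ne_zero h1

theorem SM_xa_not_neg (f : K ≃+* K) (i : Fin 2) : xa f i (1 : K) ∉ chevE6.negUnipotent K := by
  intro h
  exact one_ne_zero (xa_mem_neg f i 1 h)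

/-- the simple roots of `E₆` -/
theorem SM_simple : (List.range 6).map chevE6.simple = [56, 46, 42, 39, 37, 36] := by decide

/-- a fundamental root element commutes with a negative fundamental root element of another node -/
theorem SM_comm (i j : Fin 6) (hij : i ≠ j) (t u : K) :
    Commute (xGL chevE6 K (chevE6.simple i.val) t) (xGL chevE6 K (chevE6.neg (chevE6.simple j.val)) u) :=
  xGL_comm_pm chevE6 memE6 i.val j.val (by have := i.2; exact this) (by have := j.2; exact this)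
    (fun e => hij (Fin.ext e)) t u

theorem SM_c_aa (f : K ≃+* K) (i j : Fin 2) (hij : i ≠ j) (t u : K) : Commute (xa f i t) (ya f j u) := by
  unfold xa ya
  fin_cases i <;> fin_cases j
  · exact absurd rfl hij
  · exact ((SM_comm 0 2 (by decide) _ _).mul_right (SM_comm 0 4 (by decide) _ _)).mul_left
      ((SM_comm 5 2 (by decide) _ _).mul_right (SM_comm 5 4 (by decide) _ _))
  · exact ((SM_comm 2 0 (by decide) _ _).mul_right (SM_comm 2 5 (by decide) _ _)).mul_left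
      ((SM_comm 4 0 (by decide) _ _).mul_right (SM_comm 4 5 (by decide) _ _))
  · exact absurd rfl hij

theorem SM_c_ab (f : K ≃+* K) (i j : Fin 2) (t u : K) : Commute (xa f i t) (xGL chevE6 K (snr j) u) := by
  unfold xa
  fin_cases i <;> fin_cases j
  · exact (SM_comm 0 3 (by decide) _ _).mul_left (SM_comm 5 3 (by decide) _ _)
  · exact (SM_comm 0 1 (by decide) _ _).mul_left (SM_comm 5 1 (by decide) _ _)
  · exact (SM_comm 2 3 (by decide) _ _).mul_left (SM_comm 4 3 (by decide) _ _)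
  · exact (SM_comm 2 1 (by decide) _ _).mul_left (SM_comm 4 1 (by decide) _ _)

theorem SM_c_ba (f : K ≃+* K) (j i : Fin 2) (t u : K) : Commute (xGL chevE6 K (sr j) t) (ya f i u) := by
  unfold ya
  fin_cases i <;> fin_cases j
  · exact (SM_comm 3 0 (by decide) _ _).mul_right (SM_comm 3 5 (by decide) _ _)
  · exact (SM_comm 1 0 (by decide) _ _).mul_right (SM_comm 1 5 (by decide) _ _)
  · exact (SM_comm 3 2 (by decide) _ _).mul_right (SM_comm 3 4 (by decide) _ _)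
  · exact (SM_comm 1 2 (by decide) _ _).mul_right (SM_comm 1 4 (by decide) _ _)

theorem SM_c_bb (i j : Fin 2) (hij : i ≠ j) (t u : K) :
    Commute (xGL chevE6 K (sr i) t) (xGL chevE6 K (snr j) u) := by
  fin_cases i <;> fin_cases j
  · exact absurd rfl hij
  · exact SM_comm 3 1 (by decide) _ _
  · exact SM_comm 1 3 (by decide) _ _
  · exact absurd rfl hij

/-- the nodes of the twisted diagram are of two kinds -/
theorem SM_node_cases (a : Fin 4) :
    (∃ i : Fin 2, a = Fin.castLE (by decide) i) ∨ (∃ j : Fin 2, a = Fin.natAdd 2 j) := by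
  fin_cases a
  · exact Or.inl ⟨0, rfl⟩
  · exact Or.inl ⟨1, rfl⟩
  · exact Or.inr ⟨0, rfl⟩
  · exact Or.inr ⟨1, rfl⟩

theorem SM_XpAmb_a (f : K ≃+* K) (i : Fin 2) : XpAmb f (Fin.castLE (by decide) i) = XA f i := by
  fin_cases i <;> rfl

theorem SM_XpAmb_b (f : K ≃+* K) (j : Fin 2) : XpAmb f (Fin.natAdd 2 j) = XB f j := by
  fin_cases j <;> rfl

theorem SM_XmAmb_a (f : K ≃+* K) (i : Fin 2) : XmAmb f (Fin.castLE (by decide) i) = YA f i := by
  fin_cases i <;> rfl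

theorem SM_XmAmb_b (f : K ≃+* K) (j : Fin 2) : XmAmb f (Fin.natAdd 2 j) = YB f j := by
  fin_cases j <;> rfl

theorem SM_castLE_ne_natAdd (i j : Fin 2) : (Fin.castLE (by decide) i : Fin 4) ≠ Fin.natAdd 2 j := by
  fin_cases i <;> fin_cases j <;> decide

end SMaux

section SMgen

variable {K : Type*} [Field K] {q : ℕ}

/-- the generic form of SM1 -/
theorem SM_not_norm (s : ↥(twistedE6 K q)) (x y : K → GL chevE6.Idx K) (R : Rel x y)
    (hs : (s : GL chevE6.Idx K) = w x y 1) (hx : x 1 ∈ chevE6.posUnipotent K) (hxm : x 1 ∈ twistedE6 K q)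
    (hy : ∀ v, y v ∈ chevE6.negUnipotent K) (hx1 : x 1 ∉ chevE6.negUnipotent K) :
    cjg s (U1 K q) ≠ U1 K q := by
  intro h
  apply hx1
  have hX : (⟨x 1, hxm⟩ : ↥(twistedE6 K q)) ∈ U1 K q := Subgroup.mem_subgroupOf.mpr hx
  have h1 : s * ⟨x 1, hxm⟩ * s⁻¹ ∈ cjg s (U1 K q) := conj_mem_cjg hX
  rw [h] at h1
  have h2 : ((s * ⟨x 1, hxm⟩ * s⁻¹ : ↥(twistedE6 K q)) : GL chevE6.Idx K) ∈ chevE6.posUnipotent K :=
    Subgroup.mem_subgroupOf.mp h1
  have e : ((s * ⟨x 1, hxm⟩ * s⁻¹ : ↥(twistedE6 K q)) : GL chevE6.Idx K) = y (-(1⁻¹ * 1⁻¹ * 1)) := by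
    rw [← R.conj 1 1 one_ne_zero, ← hs]
    rfl
  have h3 : ((s * ⟨x 1, hxm⟩ * s⁻¹ : ↥(twistedE6 K q)) : GL chevE6.Idx K) ∈
      chevE6.posUnipotent K ⊓ chevE6.negUnipotent K := ⟨h2, by rw [e]; exact hy _⟩
  rw [pos_inf_neg' chevE6 memE6, Subgroup.mem_bot] at h3
  have h4 : s * ⟨x 1, hxm⟩ * s⁻¹ = 1 := Subtype.ext h3
  rw [conj_eq_one_iff] at h4
  have h5 : x 1 = 1 := congrArg Subtype.val h4
  rw [h5]
  exact one_mem _

/-- the generic form of SM3 -/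
theorem SM_le_para (P : BNPair ↥(twistedE6 K q))
    (hB : P.B = (chevE6.borelSubgroup K ⊓ twistedE6 K q).subgroupOf (twistedE6 K q))
    (s : ↥(twistedE6 K q)) (x y : K → GL chevE6.Idx K) (R : Rel x y)
    (hs : (s : GL chevE6.Idx K) = w x y 1) (t : K) (hx : x (-t) ∈ chevE6.posUnipotent K)
    (hxm : x (-t) ∈ twistedE6 K q) (g : ↥(twistedE6 K q)) (hg : (g : GL chevE6.Idx K) = y t) :
    g ∈ P.parabolic {s} := by
  have e : g = s * ⟨x (-t), hxm⟩ * s⁻¹ := by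
    apply Subtype.ext
    have h1 := R.conj 1 (-t) one_ne_zero
    have h2 : -((1 : K)⁻¹ * 1⁻¹ * -t) = t := by simp
    rw [h2] at h1
    rw [hg, ← h1, ← hs]
    rfl
  have hs' : s ∈ P.parabolic {s} :=
    closure_le_parabolic P _ (Subgroup.subset_closure (Set.mem_singleton _))
  rw [e]
  refine mul_mem (mul_mem hs' ?_) (inv_mem hs')
  apply B_le_parabolic P
  rw [hB, Subgroup.mem_subgroupOf]
  exact ⟨posUnipotent_le_borel chevE6 memE6 hx, hxm⟩

end SMgen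

/-- PIECE SM1: the distinguished generators do not normalise `U¹`
(`s_a x_a(1) s_a⁻¹ = x_{-a}(-1)` by `Rel.conj` and `sTw_a_eq`/`sTw_b_eq`; it lies in `V`, is not `1`, and `U ∩ V = 1`) -/
theorem s_not_norm_E6 {K : Type*} [Field K] [Fintype K] {q : ℕ} (f : K ≃+* K) (hf : ∀ t, f t = t ^ q)
    (a : Fin 4) : cjg (sTw f hf a) (U1 K q) ≠ U1 K q := by
  rcases SM_node_cases a with ⟨i, rfl⟩ | ⟨j, rfl⟩
  · exact SM_not_norm _ (xa f i) (ya f i) (rel_a f i) (sTw_a_eq f hf i) (SM_xa_pos f i 1) (xa_mem f hf i 1)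
      (SM_ya_neg f i) (SM_xa_not_neg f i)
  · exact SM_not_norm _ (xGL chevE6 K (sr j)) (xGL chevE6 K (snr j)) (SM_rel_b j) (sTw_b_eq f hf j)
      (SM_xb_pos j 1) (xb_mem f hf j 1 (map_one f)) (SM_yb_neg j) (SM_xb_not_neg j)

/-- PIECE SM2: `X_{-a} ≤ V¹` -/
theorem Xm_le_V_E6 {K : Type*} [Field K] {q : ℕ} (f : K ≃+* K) (a : Fin 4) : XmTw f q a ≤ V1 K q := by
  intro y hy
  have hy' : (y : GL chevE6.Idx K) ∈ XmAmb f a := Subgroup.mem_subgroupOf.mp hy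
  apply Subgroup.mem_subgroupOf.mpr
  rcases SM_node_cases a with ⟨i, rfl⟩ | ⟨j, rfl⟩
  · rw [SM_XmAmb_a] at hy'
    obtain ⟨t, ht⟩ := (mem_YA f i _).mp hy'
    rw [ht]
    exact SM_ya_neg f i t
  · rw [SM_XmAmb_b] at hy'
    obtain ⟨u, -, hu⟩ := (mem_YB f j _).mp hy'
    rw [hu]
    exact SM_yb_neg j u

/-- PIECE SM3: `X_{-a}` lies in the minimal parabolic `P_a`
(`x_{-a}(t) = s_a x_a(-t) s_a⁻¹`, `x_a(-t) ∈ B`; `B_le_parabolic`, `closure_le_parabolic` as in `chev_L1Hyp`) -/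
theorem Xm_le_P_E6 {K : Type*} [Field K] [Fintype K] {q : ℕ} (f : K ≃+* K) (hf : ∀ t, f t = t ^ q)
    (P : BNPair ↥(twistedE6 K q))
    (hB : P.B = (chevE6.borelSubgroup K ⊓ twistedE6 K q).subgroupOf (twistedE6 K q)) (a : Fin 4) :
    XmTw f q a ≤ P.parabolic {sTw f hf a} := by
  intro y hy
  have hy' : (y : GL chevE6.Idx K) ∈ XmAmb f a := Subgroup.mem_subgroupOf.mp hy
  rcases SM_node_cases a with ⟨i, rfl⟩ | ⟨j, rfl⟩
  · rw [SM_XmAmb_a] at hy'
    obtain ⟨t, ht⟩ := (mem_YA f i _).mp hy'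
    exact SM_le_para P hB _ (xa f i) (ya f i) (rel_a f i) (sTw_a_eq f hf i) t (SM_xa_pos f i _)
      (xa_mem f hf i _) y ht
  · rw [SM_XmAmb_b] at hy'
    obtain ⟨u, hfu, hu⟩ := (mem_YB f j _).mp hy'
    exact SM_le_para P hB _ (xGL chevE6 K (sr j)) (xGL chevE6 K (snr j)) (SM_rel_b j) (sTw_b_eq f hf j) u
      (SM_xb_pos j _) (xb_mem f hf j _ (by rw [map_neg, hfu])) y hu

/-- PIECE SM4: `X_a` and `X_{-b}` commute for `a ≠ b`
(`xGL_comm_pm` for the fundamental roots of `E₆`: a fundamental root and the negative of another one) -/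
theorem comm_E6 {K : Type*} [Field K] {q : ℕ} (f : K ≃+* K) (i j : Fin 4) (hij : i ≠ j)
    (x : ↥(twistedE6 K q)) (hx : x ∈ XpTw f q i)
    (y : ↥(twistedE6 K q)) (hy : y ∈ XmTw f q j) : x * y = y * x := by
  have hx' : (x : GL chevE6.Idx K) ∈ XpAmb f i := Subgroup.mem_subgroupOf.mp hx
  have hy' : (y : GL chevE6.Idx K) ∈ XmAmb f j := Subgroup.mem_subgroupOf.mp hy
  apply Subtype.ext
  rw [Subgroup.coe_mul, Subgroup.coe_mul]
  rcases SM_node_cases i with ⟨i, rfl⟩ | ⟨i, rfl⟩ <;> rcases SM_node_cases j with ⟨j, rfl⟩ | ⟨j, rfl⟩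
  · rw [SM_XpAmb_a] at hx'
    rw [SM_XmAmb_a] at hy'
    obtain ⟨t, ht⟩ := (mem_XA f i _).mp hx'
    obtain ⟨u, hu⟩ := (mem_YA f j _).mp hy'
    rw [ht, hu]
    exact (SM_c_aa f i j (fun e => hij (by rw [e])) t u).eq
  · rw [SM_XpAmb_a] at hx'
    rw [SM_XmAmb_b] at hy'
    obtain ⟨t, ht⟩ := (mem_XA f i _).mp hx'
    obtain ⟨u, -, hu⟩ := (mem_YB f j _).mp hy'
    rw [ht, hu]
    exact (SM_c_ab f i j t u).eq
  · rw [SM_XpAmb_b] at hx'
    rw [SM_XmAmb_a] at hy'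
    obtain ⟨t, -, ht⟩ := (mem_XB f i _).mp hx'
    obtain ⟨u, hu⟩ := (mem_YA f j _).mp hy'
    rw [ht, hu]
    exact (SM_c_ba f i j t u).eq
  · rw [SM_XpAmb_b] at hx'
    rw [SM_XmAmb_b] at hy'
    obtain ⟨t, -, ht⟩ := (mem_XB f i _).mp hx'
    obtain ⟨u, -, hu⟩ := (mem_YB f j _).mp hy'
    rw [ht, hu]
    exact (SM_c_bb i j (fun e => hij (by rw [e])) t u).eq

/-- PIECE SM5: `X_a` and `X_{-a}` do not commute -/
theorem ncomm_E6 {K : Type*} [Field K] [Fintype K] {q : ℕ} (f : K ≃+* K) (hf : ∀ t, f t = t ^ q) (i : Fin 4) :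
    ∃ x ∈ XpTw f q i, ∃ y ∈ XmTw f q i, x * y ≠ y * x := by
  rcases SM_node_cases i with ⟨i, rfl⟩ | ⟨j, rfl⟩
  · refine ⟨⟨xa f i 1, xa_mem f hf i 1⟩, ?_, ⟨ya f i (-1), ya_mem f hf i (-1)⟩, ?_, ?_⟩
    · apply Subgroup.mem_subgroupOf.mpr
      rw [SM_XpAmb_a]
      exact (mem_XA f i _).mpr ⟨1, rfl⟩
    · apply Subgroup.mem_subgroupOf.mpr
      rw [SM_XmAmb_a]
      exact (mem_YA f i _).mpr ⟨-1, rfl⟩
    · intro e
      exact SM_ncomm_of_rel (xa f i) (ya f i) (rel_a f i) _ (SM_ya_neg f i) (SM_xa_not_neg f i)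
        (congrArg Subtype.val e)
  · refine ⟨⟨xGL chevE6 K (sr j) 1, xb_mem f hf j 1 (map_one f)⟩, ?_,
      ⟨xGL chevE6 K (snr j) (-1), yb_mem f hf j (-1) (by rw [map_neg, map_one])⟩, ?_, ?_⟩
    · apply Subgroup.mem_subgroupOf.mpr
      rw [SM_XpAmb_b]
      exact (mem_XB f j _).mpr ⟨1, map_one f, rfl⟩
    · apply Subgroup.mem_subgroupOf.mpr
      rw [SM_XmAmb_b]
      exact (mem_YB f j _).mpr ⟨-1, by rw [map_neg, map_one], rfl⟩
    · intro e
      exact SM_ncomm_of_rel (xGL chevE6 K (sr j)) (xGL chevE6 K (snr j)) (SM_rel_b j) _ (SM_yb_neg j)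
        (SM_xb_not_neg j) (congrArg Subtype.val e)

end Cfsg.Agent.Helper36.TwE6
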