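import Cfsg.Agent.Helper36.TwE6.L2Defs
import Cfsg.Agent.Helper36.TwE6.L1

/-!
Helper36: an element of `²E₆(q)` normalising `U¹` and `V¹` lies in the torus `H`.
(The argument of `Helper18/Tw/P_Inner.lean`.)
-/

set_option autoImplicit false
set_option maxRecDepth 100000

namespace Cfsg.Agent.Helper36.TwE6

open Cfsg Cfsg.Lie Cfsg.Agent.Helper18 Cfsg.Agent.Helper18.Aut Cfsg.Agent.Helper19.Twist
  Cfsg.Agent.Helper19.Poinc Cfsg.Agent.Helper19.Cox Cfsg.Agent.S1081 Cfsg.Agent.Helper6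
  Cfsg.Agent.Helper40.SL2Hom Cfsg.Agent.S1080 Cfsg.Agent.Helper18.Sub

theorem mem_diag_of_normalizes {K : Type*} [Field K] [Fintype K] {q : ℕ} (p : ℕ) [Fact p.Prime] [CharP K p]
    (hq : IsPrimePow q) (hK : Fintype.card K = q ^ 2) (g : ↥(twistedE6 K q))
    (hU : cjg g (U1 K q) = U1 K q) (hV : cjg g (V1 K q) = V1 K q) :
    (g : GL chevE6.Idx K) ∈ chevE6.diagonalSubgroup K := by
  obtain ⟨f, hf⟩ := exists_frob hq hK
  obtain ⟨P, hmemB, hmemN, H⟩ := twE6_L1Hyp f hf p hq hK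
  -- `g ∈ B` and `n₀⁻¹ g n₀ ∈ B`
  have hgB : (g : GL chevE6.Idx K) ∈ chevE6.borelSubgroup K := (hmemB g).mp (H.normalizer_eq g hU)
  have hU' : cjg ((n0Tw f hf)⁻¹ * g * n0Tw f hf) (U1 K q) = U1 K q := by
    rw [cjg_mul, cjg_mul, H.n0_U, hV, ← H.n0_U, cjg_inv_cjg]
  have hgB' : ((n0Tw f hf : ↥(twistedE6 K q)) : GL chevE6.Idx K)⁻¹ * (g : GL chevE6.Idx K) *
      ((n0Tw f hf : ↥(twistedE6 K q)) : GL chevE6.Idx K) ∈ chevE6.borelSubgroup K :=
    (hmemB _).mp (H.normalizer_eq _ hU')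
  have hn0N := n0_mem_E6 f hf
  have hn0U : cjg ((n0Tw f hf : ↥(twistedE6 K q)) : GL chevE6.Idx K) (chevE6.posUnipotent K) =
      chevE6.negUnipotent K := by
    rw [n0Tw_val]; exact n0_pos_amb
  set n : GL chevE6.Idx K := ((n0Tw f hf : ↥(twistedE6 K q)) : GL chevE6.Idx K) with hn
  have hgVH : (g : GL chevE6.Idx K) ∈ chevE6.negUnipotent K ⊔ chevE6.diagonalSubgroup K := by
    have hmap : cjg n (chevE6.borelSubgroup K) ≤ chevE6.negUnipotent K ⊔ chevE6.diagonalSubgroup K := by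
      unfold cjg at hn0U ⊢
      conv_lhs => unfold ChevalleyDatum.borelSubgroup
      rw [Subgroup.map_sup, hn0U]
      apply sup_le_sup le_rfl
      have hnorm := monomialSubgroup_le_normalizer chevE6 memE6 hn0N
      exact le_of_eq (Subgroup.mem_normalizer_iff_map_conj_eq.mp hnorm)
    apply hmap
    rw [mem_cjg]
    exact hgB'
  rw [← (Cfsg.Agent.S1037.result (F := K) chevE6 memE6).2]
  exact ⟨hgB, hgVH⟩

end Cfsg.Agent.Helper36.TwE6
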