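import Cfsg.Agent.Helper36.TwE6.P_L2

/-!
Helper36 / twisted E6 automorphisms (S2130), PIECE CR (the functional equations of an automorphism stabilising the
fundamental root subgroups). Model: `Cfsg/Agent/Helper18/Tw/P_Cross.lean` (`³D₄`).
-/

set_option autoImplicit false
set_option maxRecDepth 100000

namespace Cfsg.Agent.Helper36.TwE6

open Cfsg Cfsg.Lie Cfsg.Agent.Helper18 Cfsg.Agent.Helper18.Aut Cfsg.Agent.Helper19.Twist
  Cfsg.Agent.Helper19.Poinc Cfsg.Agent.Helper19.Cox Cfsg.Agent.S1081 Cfsg.Agent.Helper6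
  Cfsg.Agent.Helper40.SL2Hom Cfsg.Agent.S1080 Cfsg.Agent.Helper18.Sub

theorem CR_pair_42 : pairing' chevE6 39 42 = -1 := by decide
theorem CR_pair_37 : pairing' chevE6 39 37 = -1 := by decide

/-- PIECE CR1: the cross relation `h_{p₄}(s) x_{a₁}(t) h_{p₄}(s)⁻¹ = x_{a₁}(s⁻¹ t)` for `s ∈ k₀`
(the action of `h_{p₄}(s)` on `x_{p₃}`, `x_{p₅}`: Cartan integers `-1`; `sr 0 = 39 = p₄`, `xa f 1 = x_{p₃} x_{p₅}`) -/
theorem hb_conj_xa {K : Type*} [Field K] (f : K ≃+* K) (s : K) (hs : s ≠ 0) (hfs : f s = s) (t : K) :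
    hG chevE6 K 39 s * xa f 1 t * (hG chevE6 K 39 s)⁻¹ = xa f 1 (s⁻¹ * t) := by
  have hv : ((hG chevE6 K 39 s : GL chevE6.Idx K) : Matrix chevE6.Idx chevE6.Idx K) = chevE6.hMat K 39 s :=
    hWordGL_val chevE6 memE6 39 s
  have e1 := hMat_comm_xGL chevE6 memE6 (hG chevE6 K 39 s) 39 (by decide) s hs hv 42 (by decide) t
  have e2 := hMat_comm_xGL chevE6 memE6 (hG chevE6 K 39 s) 39 (by decide) s hs hv 37 (by decide) (f t)
  rw [CR_pair_42, zpow_neg_one] at e1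
  rw [CR_pair_37, zpow_neg_one] at e2
  have hpr : pr 1 = 42 := rfl
  have hpr' : pr' 1 = 37 := rfl
  unfold xa
  rw [hpr, hpr', map_mul, map_inv₀, hfs]
  calc hG chevE6 K 39 s * (xGL chevE6 K 42 t * xGL chevE6 K 37 (f t)) * (hG chevE6 K 39 s)⁻¹
      = (hG chevE6 K 39 s * xGL chevE6 K 42 t) * xGL chevE6 K 37 (f t) * (hG chevE6 K 39 s)⁻¹ := by
        group
    _ = xGL chevE6 K 42 (s⁻¹ * t) * (hG chevE6 K 39 s * xGL chevE6 K 37 (f t)) * (hG chevE6 K 39 s)⁻¹ := by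
        rw [e1]; group
    _ = xGL chevE6 K 42 (s⁻¹ * t) * xGL chevE6 K 37 (s⁻¹ * f t) := by
        rw [e2]; group

/-- (abstract) the image of `h(t)` under an automorphism acting on a rank one system by `x(t) ↦ x(c σ t)`,
`y(t) ↦ y(c⁻¹ σ t)` -/
theorem CR_theta_h {F Γ : Type*} [Field F] [Group Γ] {x y : F → Γ} (R : Rel x y) (θ : Γ ≃* Γ) (c : Fˣ)
    (σ : F ≃+* F) (hx : ∀ t, θ (x t) = x ((c : F) * σ t)) (hy : ∀ t, θ (y t) = y (((c⁻¹ : Fˣ) : F) * σ t))
    (t : F) (ht : t ≠ 0) : θ (h x y t) = h x y (σ t) := by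
  have hc : (c : F) ≠ 0 := c.ne_zero
  have hw : ∀ u : F, u ≠ 0 → θ (w x y u) = w x y ((c : F) * σ u) := by
    intro u hu
    have hσu : σ u ≠ 0 := fun e => hu (σ.injective (e.trans (map_zero σ).symm))
    unfold w
    rw [map_mul, map_mul, hx, hy]
    congr 2
    rw [map_neg, map_inv₀, Units.val_inv_eq_inv_val]
    field_simp
  have e1 : h x y t = w x y t * (w x y 1)⁻¹ := rfl
  have hσt : σ t ≠ 0 := fun e => ht (σ.injective (e.trans (map_zero σ).symm))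
  rw [e1, map_mul, map_inv, hw t ht, hw 1 one_ne_zero, map_one, mul_one,
    ← Rel.h_mul_n (x := x) (y := y) ((c : F) * σ t), ← Rel.h_mul_n (x := x) (y := y) (c : F),
    mul_comm (c : F) (σ t), R.h_mul _ _ hσt hc]
  group

/-- the coercion of `h_{b_j}(s)` from `G¹` to the ambient group -/
theorem CR_coe_h {K : Type*} [Field K] [Fintype K] {q : ℕ} (f : K ≃+* K) (hf : ∀ t, f t = t ^ q)
    (j : Fin 2) (s : k0 f) :
    ((h (xbS f hf j) (ybS f hf j) s : ↥(twistedE6 K q)) : GL chevE6.Idx K) =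
      h (xGL chevE6 K (sr j)) (xGL chevE6 K (snr j)) (s : K) := by
  unfold h w
  simp only [Subgroup.coe_mul, Subgroup.coe_inv, xbS_coe, ybS_coe]
  push_cast
  rfl

/-- PIECE CR2: the functional equations. -/
theorem func_eq {K : Type*} [Field K] [Fintype K] {q : ℕ} (f : K ≃+* K) (hf : ∀ t, f t = t ^ q)
    (θ : ↥(twistedE6 K q) ≃* ↥(twistedE6 K q))
    (hXa : ∀ i t, ∃ t', θ (xaS f hf i t) = xaS f hf i t') (hYa : ∀ i t, ∃ t', θ (yaS f hf i t) = yaS f hf i t')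
    (hXb : ∀ j u, ∃ u', θ (xbS f hf j u) = xbS f hf j u') (hYb : ∀ j u, ∃ u', θ (ybS f hf j u) = ybS f hf j u') :
    ∃ (τ : K ≃+* K) (c : Fin 2 → Kˣ) (d : Fin 2 → (↥(k0 f))ˣ),
      (∀ i t, θ (xaS f hf i t) = xaS f hf i ((c i : K) * τ t)) ∧
      (∀ i t, θ (yaS f hf i t) = yaS f hf i (((c i)⁻¹ : Kˣ) * τ t)) ∧
      (∀ j (u : k0 f), ((θ (xbS f hf j u) : ↥(twistedE6 K q)) : GL chevE6.Idx K) =
        xGL chevE6 K (sr j) (((d j : ↥(k0 f)) : K) * τ u)) ∧
      (∀ j (u : k0 f), ((θ (ybS f hf j u) : ↥(twistedE6 K q)) : GL chevE6.Idx K) =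
        xGL chevE6 K (snr j) ((((d j)⁻¹ : (↥(k0 f))ˣ) : ↥(k0 f)) * τ u)) := by
  have La := l2_a f hf
  have Lb := l2_b f hf
  obtain ⟨c, σ, hcx, hcy, hσ⟩ := L2Hyp.main La θ id hXa hYa
  obtain ⟨d, σ', hdx, hdy, hσ'⟩ := L2Hyp.main Lb θ id hXb hYb
  simp only [id] at hcx hcy hσ hdx hdy hσ'
  have hA01 : A2 0 1 = -1 := by decide
  -- one field automorphism for both `a`-roots
  have hτ : ∀ i t, σ i t = σ 0 t := by
    intro i t
    fin_cases i
    · rfl
    · by_cases ht : t = 0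
      · subst ht
        rw [map_zero, map_zero]
      · have := hσ 0 1 t ht
        rw [hA01, zpow_neg_one, zpow_neg_one] at this
        exact inv_injective this
  have hτ' : ∀ j u, σ' j u = σ' 0 u := by
    intro j u
    fin_cases j
    · rfl
    · by_cases hu : u = 0
      · subst hu
        rw [map_zero, map_zero]
      · have := hσ' 0 1 u hu
        rw [hA01, zpow_neg_one, zpow_neg_one] at this
        exact inv_injective this
  -- the cross relation links the two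
  have hlink : ∀ s : k0 f, ((σ' 0 s : k0 f) : K) = σ 0 (s : K) := by
    intro s
    by_cases hs : s = 0
    · subst hs
      simp
    have hsK : (s : K) ≠ 0 := fun e => hs (Subtype.ext e)
    have hσs : σ' 0 s ≠ 0 := fun e => hs ((σ' 0).injective (e.trans (map_zero _).symm))
    have hσsK : ((σ' 0 s : k0 f) : K) ≠ 0 := fun e => hσs (Subtype.ext e)
    -- the relation in `G¹`
    have hrel : ∀ (v : k0 f), v ≠ 0 → ∀ t : K, h (xbS f hf 0) (ybS f hf 0) v * xaS f hf 1 t *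
        (h (xbS f hf 0) (ybS f hf 0) v)⁻¹ = xaS f hf 1 ((v : K)⁻¹ * t) := by
      intro v hv t
      have hvK : (v : K) ≠ 0 := fun e => hv (Subtype.ext e)
      apply Subtype.ext
      rw [Subgroup.coe_mul, Subgroup.coe_mul, Subgroup.coe_inv, CR_coe_h, h_b_eq 0 (v : K) hvK, xaS_coe,
        xaS_coe]
      exact hb_conj_xa f (v : K) hvK v.2 t
    have h1 := congrArg θ (hrel s hs 1)
    rw [map_mul, map_mul, map_inv, CR_theta_h (Lb.rel 0) θ (d 0) (σ' 0) (hdx 0) (hdy 0) s hs, hcx, hcx,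
      hrel (σ' 0 s) hσs] at h1
    have h2 := congrArg Subtype.val h1
    rw [xaS_coe, xaS_coe] at h2
    have h3 := xa_inj f 1 h2
    rw [hτ 1, hτ 1, mul_one, map_inv₀, map_one, mul_one] at h3
    have hc1 : ((c 1 : Kˣ) : K) ≠ 0 := (c 1).ne_zero
    have h4 : ((σ' 0 s : k0 f) : K)⁻¹ = (σ 0 (s : K))⁻¹ := by
      have h5 : ((c 1 : Kˣ) : K) * ((σ' 0 s : k0 f) : K)⁻¹ = (c 1 : K) * (σ 0 (s : K))⁻¹ := by
        rw [mul_comm, h3]
      exact mul_left_cancel₀ hc1 h5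
    exact inv_injective h4
  refine ⟨σ 0, c, d, ?_, ?_, ?_, ?_⟩
  · intro i t
    rw [hcx, hτ]
  · intro i t
    rw [hcy, hτ]
  · intro j u
    rw [hdx, xbS_coe, hτ']
    congr 1
    push_cast
    rw [hlink]
  · intro j u
    rw [hdy, ybS_coe, hτ']
    congr 1
    push_cast
    rw [hlink]

end Cfsg.Agent.Helper36.TwE6
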