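import Cfsg.Agent.Helper36.TwE6.L2Defs
import Cfsg.Agent.Helper36.OutDiag

/-!
Helper36 / twisted E6 automorphisms (S2130), PIECE DA (the diagonal automorphisms of `²E₆(q)`): conjugation by the
diagonal matrix of a `σ`-compatible character of the root lattice.
-/

set_option autoImplicit false
set_option maxRecDepth 100000

namespace Cfsg.Agent.Helper36.TwE6

open Cfsg Cfsg.Lie Cfsg.Agent.Helper18 Cfsg.Agent.Helper18.Aut Cfsg.Agent.Helper19.Twist
  Cfsg.Agent.Helper19.Poinc Cfsg.Agent.Helper19.Cox Cfsg.Agent.S1081 Cfsg.Agent.Helper6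
  Cfsg.Agent.Helper40.SL2Hom Cfsg.Agent.S1080 Cfsg.Agent.Helper18.Sub

section DA

variable {K : Type*} [Field K] {q : ℕ} (f : K ≃+* K) (hf : ∀ t, f t = t ^ q)

/-- conjugation of a root element by the diagonal matrix of a root character -/
theorem DA_conj_xGL (χ : ℕ → Kˣ) (hχ : chevE6.IsRootCharacter χ) (r : ℕ) (hr : r < chevE6.nroots) (t : K) :
    Cfsg.Agent.Helper36.ChevAut.dGL chevE6 χ * xGL chevE6 K r t * (Cfsg.Agent.Helper36.ChevAut.dGL chevE6 χ)⁻¹ =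
      xGL chevE6 K r ((χ r : K) * t) := by
  apply Units.ext
  rw [Units.val_mul, Units.val_mul, xGL_val chevE6 _ (triOK_of_mem chevE6 memE6),
    xGL_val chevE6 _ (triOK_of_mem chevE6 memE6)]
  exact Cfsg.Agent.S2157.result chevE6 memE6 χ hχ r hr t

/-- `σ`-compatible characters -/
def DA_Compat (χ : ℕ → Kˣ) : Prop :=
  (χ 36 : K) = f (χ 56) ∧ (χ 37 : K) = f (χ 42) ∧ f (χ 39) = χ 39 ∧ f (χ 46) = χ 46

include hf in
/-- conjugation by the diagonal matrix of a `σ`-compatible character stabilises `²E₆(q)` -/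
theorem DA_stab (χ : ℕ → Kˣ) (hχ : chevE6.IsRootCharacter χ) (hc : DA_Compat f χ) (g : GL chevE6.Idx K)
    (hg : g ∈ twistedE6 K q) :
    Cfsg.Agent.Helper36.ChevAut.dGL chevE6 χ * g * (Cfsg.Agent.Helper36.ChevAut.dGL chevE6 χ)⁻¹ ∈ twistedE6 K q := by
  have htri := triOK_of_mem chevE6 memE6
  set d := Cfsg.Agent.Helper36.ChevAut.dGL chevE6 χ with hd
  obtain ⟨c1, c2, c3, c4⟩ := hc
  have n56 : χ 15 = (χ 56)⁻¹ := hχ.1 56 (by decide)
  have n36 : χ 35 = (χ 36)⁻¹ := hχ.1 36 (by decide)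
  have n42 : χ 29 = (χ 42)⁻¹ := hχ.1 42 (by decide)
  have n37 : χ 34 = (χ 37)⁻¹ := hχ.1 37 (by decide)
  have n39 : χ 32 = (χ 39)⁻¹ := hχ.1 39 (by decide)
  have n46 : χ 25 = (χ 46)⁻¹ := hχ.1 46 (by decide)
  have hle : twistedE6 K q ≤ (twistedE6 K q).comap (MulAut.conj d).toMonoidHom := by
    unfold twistedE6 ChevalleyDatum.genSubgroup
    rw [Subgroup.closure_le]
    rintro g ⟨w, hw, hg⟩
    have e : g = wordGL chevE6 K w := Units.ext (by rw [hg, wordGL_val chevE6 _ htri])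
    rw [SetLike.mem_coe, Subgroup.mem_comap]
    show d * g * d⁻¹ ∈ _
    rw [e]
    rcases hw with ⟨t, ht, r, hr, rfl⟩ | ⟨t, rs, hrs, rfl⟩
    · have e1 : wordGL chevE6 K [(r, t)] = xGL chevE6 K r t := by simp [wordGL]
      have hft : f t = t := by rw [hf, ht]
      have hrlt : r < chevE6.nroots := by
        simp only [e6p2, e6m2, e6p4, e6m4, List.mem_cons, List.not_mem_nil, or_false] at hr
        rcases hr with rfl | rfl | rfl | rfl <;> decide
      rw [e1, DA_conj_xGL χ hχ r hrlt t]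
      apply xSingleE6_mem f hf r hr
      rw [map_mul, hft]
      congr 1
      simp only [e6p2, e6m2, e6p4, e6m4, List.mem_cons, List.not_mem_nil, or_false] at hr
      rcases hr with rfl | rfl | rfl | rfl
      · exact c4
      · rw [n46, Units.val_inv_eq_inv_val, map_inv₀, c4]
      · exact c3
      · rw [n39, Units.val_inv_eq_inv_val, map_inv₀, c3]
    · have e1 : wordGL chevE6 K [(rs.1, t), (rs.2, t ^ q)] = xGL chevE6 K rs.1 t * xGL chevE6 K rs.2 (f t) := by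
        rw [hf]; simp [wordGL]
      have hlt : rs.1 < chevE6.nroots ∧ rs.2 < chevE6.nroots ∧ (χ rs.2 : K) = f (χ rs.1) := by
        simp only [e6p1, e6p6, e6m1, e6m6, e6p3, e6p5, e6m3, e6m5, List.mem_cons, List.not_mem_nil, or_false] at hrs
        rcases hrs with rfl | rfl | rfl | rfl
        · exact ⟨by decide, by decide, c1⟩
        · refine ⟨by decide, by decide, ?_⟩
          show (χ 35 : K) = f (χ 15)
          rw [n36, n56, Units.val_inv_eq_inv_val, Units.val_inv_eq_inv_val, map_inv₀, c1]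
        · exact ⟨by decide, by decide, c2⟩
        · refine ⟨by decide, by decide, ?_⟩
          show (χ 34 : K) = f (χ 29)
          rw [n37, n42, Units.val_inv_eq_inv_val, Units.val_inv_eq_inv_val, map_inv₀, c2]
      obtain ⟨h1, h2, h3⟩ := hlt
      have e2 : d * (xGL chevE6 K rs.1 t * xGL chevE6 K rs.2 (f t)) * d⁻¹ =
          (d * xGL chevE6 K rs.1 t * d⁻¹) * (d * xGL chevE6 K rs.2 (f t) * d⁻¹) := by group
      rw [e1, e2, DA_conj_xGL χ hχ _ h1 t, DA_conj_xGL χ hχ _ h2 (f t), h3, ← map_mul]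
      exact xPairE6_mem f hf rs hrs _
  exact hle hg

omit hf in
theorem DA_compat_inv (χ : ℕ → Kˣ) (hc : DA_Compat f χ) : DA_Compat f (fun s => (χ s)⁻¹) := by
  obtain ⟨c1, c2, c3, c4⟩ := hc
  refine ⟨?_, ?_, ?_, ?_⟩
  · show (((χ 36)⁻¹ : Kˣ) : K) = f ((χ 56)⁻¹ : Kˣ)
    rw [Units.val_inv_eq_inv_val, Units.val_inv_eq_inv_val, map_inv₀, c1]
  · show (((χ 37)⁻¹ : Kˣ) : K) = f ((χ 42)⁻¹ : Kˣ)
    rw [Units.val_inv_eq_inv_val, Units.val_inv_eq_inv_val, map_inv₀, c2]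
  · show f ((χ 39)⁻¹ : Kˣ) = ((χ 39)⁻¹ : Kˣ)
    rw [Units.val_inv_eq_inv_val, map_inv₀, c3]
  · show f ((χ 46)⁻¹ : Kˣ) = ((χ 46)⁻¹ : Kˣ)
    rw [Units.val_inv_eq_inv_val, map_inv₀, c4]

/-- the diagonal automorphism of `²E₆(q)` attached to a `σ`-compatible character -/
noncomputable def DA_aut (χ : ℕ → Kˣ) (hχ : chevE6.IsRootCharacter χ) (hc : DA_Compat f χ) :
    ↥(twistedE6 K q) ≃* ↥(twistedE6 K q) where
  toFun g := ⟨Cfsg.Agent.Helper36.ChevAut.dGL chevE6 χ * g * (Cfsg.Agent.Helper36.ChevAut.dGL chevE6 χ)⁻¹,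
    DA_stab f hf χ hχ hc g g.2⟩
  invFun g := ⟨(Cfsg.Agent.Helper36.ChevAut.dGL chevE6 χ)⁻¹ * g * Cfsg.Agent.Helper36.ChevAut.dGL chevE6 χ, by
    have := DA_stab f hf _ (Cfsg.Agent.Helper36.ChevAut.isRootCharacter_inv chevE6 χ hχ) (DA_compat_inv f χ hc) g g.2
    rw [← Cfsg.Agent.Helper36.ChevAut.dGL_inv, inv_inv] at this
    exact this⟩
  left_inv g := by
    apply Subtype.ext
    show (Cfsg.Agent.Helper36.ChevAut.dGL chevE6 χ)⁻¹ * (Cfsg.Agent.Helper36.ChevAut.dGL chevE6 χ * g *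
      (Cfsg.Agent.Helper36.ChevAut.dGL chevE6 χ)⁻¹) * Cfsg.Agent.Helper36.ChevAut.dGL chevE6 χ = g
    group
  right_inv g := by
    apply Subtype.ext
    show Cfsg.Agent.Helper36.ChevAut.dGL chevE6 χ * ((Cfsg.Agent.Helper36.ChevAut.dGL chevE6 χ)⁻¹ * g *
      Cfsg.Agent.Helper36.ChevAut.dGL chevE6 χ) * (Cfsg.Agent.Helper36.ChevAut.dGL chevE6 χ)⁻¹ = g
    group
  map_mul' g h := by
    apply Subtype.ext
    show Cfsg.Agent.Helper36.ChevAut.dGL chevE6 χ * (g * h : GL chevE6.Idx K) *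
        (Cfsg.Agent.Helper36.ChevAut.dGL chevE6 χ)⁻¹ =
      (Cfsg.Agent.Helper36.ChevAut.dGL chevE6 χ * g * (Cfsg.Agent.Helper36.ChevAut.dGL chevE6 χ)⁻¹) *
        (Cfsg.Agent.Helper36.ChevAut.dGL chevE6 χ * h * (Cfsg.Agent.Helper36.ChevAut.dGL chevE6 χ)⁻¹)
    group

end DA

/-- PIECE DA: for `c₀, c₁ ∈ K*`, `d₀, d₁ ∈ k₀*` there is an automorphism `δ` of `G¹` multiplying the parameters of the
fundamental root elements by these scalars, and stabilising `U¹` and `V¹`. -/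
theorem exists_deltaTw {K : Type*} [Field K] [Fintype K] {q : ℕ} (f : K ≃+* K) (hf : ∀ t, f t = t ^ q)
    (hK : Fintype.card K = q ^ 2) (c : Fin 2 → Kˣ) (d : Fin 2 → (↥(k0 f))ˣ) :
    ∃ δ : ↥(twistedE6 K q) ≃* ↥(twistedE6 K q),
      (∀ i t, δ (xaS f hf i t) = xaS f hf i ((c i : K) * t)) ∧
      (∀ i t, δ (yaS f hf i t) = yaS f hf i (((c i)⁻¹ : Kˣ) * t)) ∧
      (∀ j (u : k0 f), δ (xbS f hf j u) = xbS f hf j ((d j : ↥(k0 f)) * u)) ∧
      (∀ j (u : k0 f), δ (ybS f hf j u) = ybS f hf j ((((d j)⁻¹ : (↥(k0 f))ˣ) : ↥(k0 f)) * u)) ∧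
      (∀ x : ↥(twistedE6 K q), (x : GL chevE6.Idx K) ∈ chevE6.posUnipotent K →
        ((δ x : ↥(twistedE6 K q)) : GL chevE6.Idx K) ∈ chevE6.posUnipotent K) ∧
      (∀ x : ↥(twistedE6 K q), (x : GL chevE6.Idx K) ∈ chevE6.negUnipotent K →
        ((δ x : ↥(twistedE6 K q)) : GL chevE6.Idx K) ∈ chevE6.negUnipotent K) := by
  classical
  -- the values at the six fundamental roots `p₁, p₂, p₃, p₄, p₅, p₆`
  let fU : Kˣ →* Kˣ := Units.map (f : K →* K)
  let dK : Fin 2 → Kˣ := fun j => Units.map ((k0 f).subtype : ↥(k0 f) →* K) (d j)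
  let c' : Fin chevE6.rank → Kˣ := fun i =>
    ([c 0, dK 1, c 1, dK 0, fU (c 1), fU (c 0)] : List Kˣ).getD i.val 1
  set T := Cfsg.Agent.Helper36.ParaCent.coTab chevE6 with hTdef
  have hT := Cfsg.Agent.Helper36.ChevAut.rootCoordOK_E6
  set χ : ℕ → Kˣ := Cfsg.Agent.Helper36.OutDiag.chr chevE6 T c' with hχdef
  have hχ : chevE6.IsRootCharacter χ := Cfsg.Agent.Helper36.OutDiag.isRootCharacter_chr chevE6 T hT c'
  have v56 : χ 56 = c 0 := Cfsg.Agent.Helper36.OutDiag.chr_simple chevE6 T hT c' ⟨0, by decide⟩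
  have v46 : χ 46 = dK 1 := Cfsg.Agent.Helper36.OutDiag.chr_simple chevE6 T hT c' ⟨1, by decide⟩
  have v42 : χ 42 = c 1 := Cfsg.Agent.Helper36.OutDiag.chr_simple chevE6 T hT c' ⟨2, by decide⟩
  have v39 : χ 39 = dK 0 := Cfsg.Agent.Helper36.OutDiag.chr_simple chevE6 T hT c' ⟨3, by decide⟩
  have v37 : χ 37 = fU (c 1) := Cfsg.Agent.Helper36.OutDiag.chr_simple chevE6 T hT c' ⟨4, by decide⟩
  have v36 : χ 36 = fU (c 0) := Cfsg.Agent.Helper36.OutDiag.chr_simple chevE6 T hT c' ⟨5, by decide⟩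
  have n56 : χ 15 = (χ 56)⁻¹ := hχ.1 56 (by decide)
  have n36 : χ 35 = (χ 36)⁻¹ := hχ.1 36 (by decide)
  have n42 : χ 29 = (χ 42)⁻¹ := hχ.1 42 (by decide)
  have n37 : χ 34 = (χ 37)⁻¹ := hχ.1 37 (by decide)
  have n39 : χ 32 = (χ 39)⁻¹ := hχ.1 39 (by decide)
  have n46 : χ 25 = (χ 46)⁻¹ := hχ.1 46 (by decide)
  have hdK : ∀ j, f (dK j : K) = (dK j : K) := fun j => (mem_k0 f _).mp (d j : ↥(k0 f)).2
  have hcompat : DA_Compat f χ := by
    refine ⟨?_, ?_, ?_, ?_⟩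
    · rw [v36, v56]; rfl
    · rw [v37, v42]; rfl
    · rw [v39]; exact hdK 0
    · rw [v46]; exact hdK 1
  set δ := DA_aut f hf χ hχ hcompat with hδ
  have hδval : ∀ x : ↥(twistedE6 K q), ((δ x : ↥(twistedE6 K q)) : GL chevE6.Idx K) =
      Cfsg.Agent.Helper36.ChevAut.dGL chevE6 χ * x * (Cfsg.Agent.Helper36.ChevAut.dGL chevE6 χ)⁻¹ := fun x => rfl
  have hpair : ∀ (r r' : ℕ) (hr : r < chevE6.nroots) (hr' : r' < chevE6.nroots) (a : Kˣ) (hχr : χ r = a)
      (hχr' : (χ r' : K) = f a) (t : K),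
      Cfsg.Agent.Helper36.ChevAut.dGL chevE6 χ * (xGL chevE6 K r t * xGL chevE6 K r' (f t)) *
        (Cfsg.Agent.Helper36.ChevAut.dGL chevE6 χ)⁻¹ =
      xGL chevE6 K r ((a : K) * t) * xGL chevE6 K r' (f ((a : K) * t)) := by
    intro r r' hr hr' a hχr hχr' t
    have e2 : Cfsg.Agent.Helper36.ChevAut.dGL chevE6 χ * (xGL chevE6 K r t * xGL chevE6 K r' (f t)) *
        (Cfsg.Agent.Helper36.ChevAut.dGL chevE6 χ)⁻¹ =
        (Cfsg.Agent.Helper36.ChevAut.dGL chevE6 χ * xGL chevE6 K r t *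
          (Cfsg.Agent.Helper36.ChevAut.dGL chevE6 χ)⁻¹) *
        (Cfsg.Agent.Helper36.ChevAut.dGL chevE6 χ * xGL chevE6 K r' (f t) *
          (Cfsg.Agent.Helper36.ChevAut.dGL chevE6 χ)⁻¹) := by group
    rw [e2, DA_conj_xGL χ hχ r hr t, DA_conj_xGL χ hχ r' hr' (f t), hχr, hχr', map_mul]
  refine ⟨δ, ?_, ?_, ?_, ?_, ?_, ?_⟩
  · intro i t
    apply Subtype.ext
    rw [hδval]
    fin_cases i
    · exact hpair 56 36 (by decide) (by decide) (c 0) v56 (by rw [v36]; rfl) t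
    · exact hpair 42 37 (by decide) (by decide) (c 1) v42 (by rw [v37]; rfl) t
  · intro i t
    apply Subtype.ext
    rw [hδval]
    fin_cases i
    · exact hpair 15 35 (by decide) (by decide) (c 0)⁻¹ (by rw [n56, v56])
        (by rw [n36, v36, Units.val_inv_eq_inv_val, Units.val_inv_eq_inv_val, map_inv₀]; rfl) t
    · exact hpair 29 34 (by decide) (by decide) (c 1)⁻¹ (by rw [n42, v42])
        (by rw [n37, v37, Units.val_inv_eq_inv_val, Units.val_inv_eq_inv_val, map_inv₀]; rfl) t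
  · intro j u
    apply Subtype.ext
    rw [hδval]
    fin_cases j
    · show _ * xGL chevE6 K 39 u * _ = xGL chevE6 K 39 _
      rw [DA_conj_xGL χ hχ 39 (by decide) u, v39]
      rfl
    · show _ * xGL chevE6 K 46 u * _ = xGL chevE6 K 46 _
      rw [DA_conj_xGL χ hχ 46 (by decide) u, v46]
      rfl
  · intro j u
    apply Subtype.ext
    rw [hδval]
    fin_cases j
    · show _ * xGL chevE6 K 32 u * _ = xGL chevE6 K 32 _
      rw [DA_conj_xGL χ hχ 32 (by decide) u, n39, v39]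
      congr 1
    · show _ * xGL chevE6 K 25 u * _ = xGL chevE6 K 25 _
      rw [DA_conj_xGL χ hχ 25 (by decide) u, n46, v46]
      congr 1
  · intro x hx
    rw [hδval]
    have hxE : (x : GL chevE6.Idx K) ∈ chevE6.group K := genSubgroup_le_group memE6 _ x.2
    exact Cfsg.Agent.Helper36.OutDiag.presU_dAut chevE6 memE6 T hT c' ⟨x, hxE⟩ hx
  · intro x hx
    rw [hδval]
    have hxE : (x : GL chevE6.Idx K) ∈ chevE6.group K := genSubgroup_le_group memE6 _ x.2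
    exact Cfsg.Agent.Helper36.OutDiag.presV_dAut chevE6 memE6 T hT c' ⟨x, hxE⟩ hx

end Cfsg.Agent.Helper36.TwE6
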