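import Cfsg.Agent.Helper36.TwE6.L2Defs
import Cfsg.Agent.Helper18.Aut.Level1

/-!
Helper36: the subgroup `NA` of the automorphisms of `²E₆(q)` stabilising all fundamental root subgroups, and
criteria for membership.
-/

set_option autoImplicit false
set_option maxRecDepth 100000

namespace Cfsg.Agent.Helper36.TwE6

open Cfsg Cfsg.Lie Cfsg.Agent.Helper18 Cfsg.Agent.Helper18.Aut Cfsg.Agent.Helper19.Twist
  Cfsg.Agent.Helper19.Poinc Cfsg.Agent.Helper19.Cox Cfsg.Agent.S1081 Cfsg.Agent.Helper6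
  Cfsg.Agent.Helper40.SL2Hom Cfsg.Agent.S1080 Cfsg.Agent.Helper18.Sub

section

variable {K : Type*} [Field K] {q : ℕ} (f : K ≃+* K)

/-- the automorphisms stabilising all fundamental root subgroups -/
def NA (q : ℕ) : Subgroup (MulAut ↥(twistedE6 K q)) where
  carrier := {θ | ∀ a, im θ (XpTw f q a) = XpTw f q a ∧ im θ (XmTw f q a) = XmTw f q a}
  one_mem' := by
    intro a
    constructor <;>
    · ext x
      rw [mem_im]
      rfl
  mul_mem' := by
    intro θ ψ hθ hψ a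
    have e : ∀ S : Subgroup ↥(twistedE6 K q), im (θ * ψ) S = im θ (im ψ S) := by
      intro S
      ext x
      simp only [mem_im]
      rfl
    rw [e, e, (hψ a).1, (hψ a).2]
    exact hθ a
  inv_mem' := by
    intro θ hθ a
    have e : ∀ S : Subgroup ↥(twistedE6 K q), im θ S = S → im θ⁻¹ S = S := by
      intro S hS
      conv_lhs => rw [← hS]
      exact im_symm_im θ S
    exact ⟨e _ (hθ a).1, e _ (hθ a).2⟩

theorem mem_NA (θ : MulAut ↥(twistedE6 K q)) :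
    θ ∈ NA f q ↔ ∀ a, im θ (XpTw f q a) = XpTw f q a ∧ im θ (XmTw f q a) = XmTw f q a := Iff.rfl

theorem XpAmb_A (i : Fin 2) : XpAmb f (Fin.castLE (by decide) i) = XA f i := by fin_cases i <;> rfl
theorem XpAmb_B (j : Fin 2) : XpAmb f (Fin.natAdd 2 j) = XB f j := by fin_cases j <;> rfl
theorem XmAmb_A (i : Fin 2) : XmAmb f (Fin.castLE (by decide) i) = YA f i := by fin_cases i <;> rfl
theorem XmAmb_B (j : Fin 2) : XmAmb f (Fin.natAdd 2 j) = YB f j := by fin_cases j <;> rfl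

theorem forall_node (Q : Fin 4 → Prop) (hA : ∀ i : Fin 2, Q (Fin.castLE (by decide) i))
    (hB : ∀ j : Fin 2, Q (Fin.natAdd 2 j)) : ∀ a, Q a := by
  intro a
  fin_cases a
  · exact hA 0
  · exact hA 1
  · exact hB 0
  · exact hB 1

variable (hf : ∀ t, f t = t ^ q)

theorem mem_XpA (i : Fin 2) (x : ↥(twistedE6 K q)) :
    x ∈ XpTw f q (Fin.castLE (by decide) i) ↔ ∃ t, x = xaS f hf i t := by
  unfold XpTw
  rw [Subgroup.mem_subgroupOf, XpAmb_A, mem_XA]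
  constructor
  · rintro ⟨t, ht⟩; exact ⟨t, Subtype.ext ht⟩
  · rintro ⟨t, rfl⟩; exact ⟨t, rfl⟩

theorem mem_XmA (i : Fin 2) (x : ↥(twistedE6 K q)) :
    x ∈ XmTw f q (Fin.castLE (by decide) i) ↔ ∃ t, x = yaS f hf i t := by
  unfold XmTw
  rw [Subgroup.mem_subgroupOf, XmAmb_A, mem_YA]
  constructor
  · rintro ⟨t, ht⟩; exact ⟨t, Subtype.ext ht⟩
  · rintro ⟨t, rfl⟩; exact ⟨t, rfl⟩

theorem mem_XpB (j : Fin 2) (x : ↥(twistedE6 K q)) :
    x ∈ XpTw f q (Fin.natAdd 2 j) ↔ ∃ u, x = xbS f hf j u := by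
  unfold XpTw
  rw [Subgroup.mem_subgroupOf, XpAmb_B, mem_XB]
  constructor
  · rintro ⟨u, hu, ht⟩; exact ⟨⟨u, hu⟩, Subtype.ext ht⟩
  · rintro ⟨u, rfl⟩; exact ⟨u, u.2, rfl⟩

theorem mem_XmB (j : Fin 2) (x : ↥(twistedE6 K q)) :
    x ∈ XmTw f q (Fin.natAdd 2 j) ↔ ∃ u, x = ybS f hf j u := by
  unfold XmTw
  rw [Subgroup.mem_subgroupOf, XmAmb_B, mem_YB]
  constructor
  · rintro ⟨u, hu, ht⟩; exact ⟨⟨u, hu⟩, Subtype.ext ht⟩
  · rintro ⟨u, rfl⟩; exact ⟨u, u.2, rfl⟩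

/-- an automorphism acting on a parametrised family through a bijection of the parameters stabilises the subgroup
consisting of that family -/
theorem im_eq_of_param {T : Type*} (θ : ↥(twistedE6 K q) ≃* ↥(twistedE6 K q)) (S : Subgroup ↥(twistedE6 K q))
    (x : T → ↥(twistedE6 K q)) (hS : ∀ g, g ∈ S ↔ ∃ t, g = x t) (φ : T → T) (hφ : Function.Surjective φ)
    (h : ∀ t, θ (x t) = x (φ t)) : im θ S = S := by
  ext g
  rw [mem_im]
  constructor
  · intro hg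
    obtain ⟨t, ht⟩ := (hS _).mp hg
    have : g = θ (x t) := by rw [← ht]; simp
    rw [this, h]
    exact (hS _).mpr ⟨_, rfl⟩
  · intro hg
    obtain ⟨t', rfl⟩ := (hS _).mp hg
    obtain ⟨t, rfl⟩ := hφ t'
    rw [← h]
    simp only [MulEquiv.symm_apply_apply]
    exact (hS _).mpr ⟨_, rfl⟩

/-- membership in `NA` from the action on the root elements -/
theorem mem_NA_of_param (θ : ↥(twistedE6 K q) ≃* ↥(twistedE6 K q))
    (φa ψa : Fin 2 → K → K) (φb ψb : Fin 2 → ↥(k0 f) → ↥(k0 f))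
    (hφa : ∀ i, Function.Surjective (φa i)) (hψa : ∀ i, Function.Surjective (ψa i))
    (hφb : ∀ j, Function.Surjective (φb j)) (hψb : ∀ j, Function.Surjective (ψb j))
    (h1 : ∀ i t, θ (xaS f hf i t) = xaS f hf i (φa i t)) (h2 : ∀ i t, θ (yaS f hf i t) = yaS f hf i (ψa i t))
    (h3 : ∀ j u, θ (xbS f hf j u) = xbS f hf j (φb j u)) (h4 : ∀ j u, θ (ybS f hf j u) = ybS f hf j (ψb j u)) :
    θ ∈ NA f q := by
  rw [mem_NA]
  apply forall_node
  · intro i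
    exact ⟨im_eq_of_param θ _ (xaS f hf i) (mem_XpA f hf i) (φa i) (hφa i) (h1 i),
      im_eq_of_param θ _ (yaS f hf i) (mem_XmA f hf i) (ψa i) (hψa i) (h2 i)⟩
  · intro j
    exact ⟨im_eq_of_param θ _ (xbS f hf j) (mem_XpB f hf j) (φb j) (hφb j) (h3 j),
      im_eq_of_param θ _ (ybS f hf j) (mem_XmB f hf j) (ψb j) (hψb j) (h4 j)⟩

/-- the elements of `NA` map root elements to root elements of the same kind -/
theorem NA_maps (θ : MulAut ↥(twistedE6 K q)) (hθ : θ ∈ NA f q) :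
    (∀ i t, ∃ t', θ (xaS f hf i t) = xaS f hf i t') ∧ (∀ i t, ∃ t', θ (yaS f hf i t) = yaS f hf i t') ∧
    (∀ j u, ∃ u', θ (xbS f hf j u) = xbS f hf j u') ∧ (∀ j u, ∃ u', θ (ybS f hf j u) = ybS f hf j u') := by
  have himg : ∀ (S : Subgroup ↥(twistedE6 K q)) (x : ↥(twistedE6 K q)), im θ S = S → x ∈ S → θ x ∈ S := by
    intro S x hS hx
    rw [← hS, mem_im]
    simpa using hx
  refine ⟨fun i t => ?_, fun i t => ?_, fun j u => ?_, fun j u => ?_⟩
  · exact (mem_XpA f hf i _).mp (himg _ _ (hθ _).1 ((mem_XpA f hf i _).mpr ⟨t, rfl⟩))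
  · exact (mem_XmA f hf i _).mp (himg _ _ (hθ _).2 ((mem_XmA f hf i _).mpr ⟨t, rfl⟩))
  · exact (mem_XpB f hf j _).mp (himg _ _ (hθ _).1 ((mem_XpB f hf j _).mpr ⟨u, rfl⟩))
  · exact (mem_XmB f hf j _).mp (himg _ _ (hθ _).2 ((mem_XmB f hf j _).mpr ⟨u, rfl⟩))

end

end Cfsg.Agent.Helper36.TwE6
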