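import Cfsg.Agent.Helper36.TwE6.L2Defs
import Cfsg.Agent.Helper36.TwE6.P_Fix
import Cfsg.Agent.Helper36.TwE6.AutBasic
import Cfsg.Agent.Helper19.Twist.UD4

/-!
Helper36 / twisted E6 automorphisms (S2130), PIECE EX (generation; field automorphisms on the generators; orders of
the fundamental root subgroups). Model: `Cfsg/Agent/Helper18/Tw/P_Ext.lean` (`³D₄`).  (Piece proved by helper75.)
-/

set_option autoImplicit false
set_option maxRecDepth 100000

namespace Cfsg.Agent.Helper36.TwE6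

open Cfsg Cfsg.Lie Cfsg.Agent.Helper18 Cfsg.Agent.Helper18.Aut Cfsg.Agent.Helper19.Twist
  Cfsg.Agent.Helper19.Poinc Cfsg.Agent.Helper19.Cox Cfsg.Agent.S1081 Cfsg.Agent.Helper6
  Cfsg.Agent.Helper40.SL2Hom Cfsg.Agent.S1080 Cfsg.Agent.Helper18.Sub

/-- the generators of `²E₆(q)` are root elements of one of the eight kinds -/
theorem EX_gen_cases {K : Type*} [Field K] {q : ℕ} (f : K ≃+* K) (hf : ∀ t, f t = t ^ q)
    (g : GL chevE6.Idx K)
    (hg : g ∈ {g : GL chevE6.Idx K | ∃ w ∈ e6Words K q,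
      (g : Matrix chevE6.Idx chevE6.Idx K) = chevE6.wordMat K w}) :
    (∃ i t, g = xa f i t) ∨ (∃ i t, g = ya f i t) ∨
      (∃ j u, f u = u ∧ g = xGL chevE6 K (sr j) u) ∨ (∃ j u, f u = u ∧ g = xGL chevE6 K (snr j) u) := by
  have htri := triOK_of_mem chevE6 memE6
  obtain ⟨w, hw, hg⟩ := hg
  rcases hw with ⟨t, ht, r, hr, rfl⟩ | ⟨t, rs, hrs, rfl⟩
  · have e : g = xGL chevE6 K r t := Units.ext (by
      rw [hg, xGL_val chevE6 _ htri]; simp [ChevalleyDatum.wordMat])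
    have hft : f t = t := by rw [hf, ht]
    simp only [e6p2, e6m2, e6p4, e6m4, List.mem_cons, List.not_mem_nil, or_false] at hr
    rcases hr with rfl | rfl | rfl | rfl
    · right; right; left; exact ⟨1, t, hft, e⟩
    · right; right; right; exact ⟨1, t, hft, e⟩
    · right; right; left; exact ⟨0, t, hft, e⟩
    · right; right; right; exact ⟨0, t, hft, e⟩
  · have e : g = xGL chevE6 K rs.1 t * xGL chevE6 K rs.2 (f t) := Units.ext (by
      rw [hg, Units.val_mul, xGL_val chevE6 _ htri, xGL_val chevE6 _ htri, hf]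
      simp [ChevalleyDatum.wordMat])
    simp only [e6p1, e6p6, e6m1, e6m6, e6p3, e6p5, e6m3, e6m5, List.mem_cons, List.not_mem_nil,
      or_false] at hrs
    rcases hrs with rfl | rfl | rfl | rfl
    · left; exact ⟨0, t, e⟩
    · right; left; exact ⟨0, t, e⟩
    · left; exact ⟨1, t, e⟩
    · right; left; exact ⟨1, t, e⟩

/-- PIECE EX1: an automorphism is determined by its values on the root elements (`twistedE6` is the closure of
the words in `e6Words`; each is one of the eight kinds of root elements) -/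
theorem aut_ext_twE6 {K : Type*} [Field K] [Fintype K] {q : ℕ} (f : K ≃+* K) (hf : ∀ t, f t = t ^ q)
    (θ θ' : ↥(twistedE6 K q) ≃* ↥(twistedE6 K q))
    (h1 : ∀ i t, θ (xaS f hf i t) = θ' (xaS f hf i t)) (h2 : ∀ i t, θ (yaS f hf i t) = θ' (yaS f hf i t))
    (h3 : ∀ j u, θ (xbS f hf j u) = θ' (xbS f hf j u)) (h4 : ∀ j u, θ (ybS f hf j u) = θ' (ybS f hf j u)) :
    θ = θ' := by
  have key : ∀ (x : GL chevE6.Idx K), x ∈ Subgroup.closure {g : GL chevE6.Idx K | ∃ w ∈ e6Words K q,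
      (g : Matrix chevE6.Idx chevE6.Idx K) = chevE6.wordMat K w} →
      ∀ hx : x ∈ twistedE6 K q, θ ⟨x, hx⟩ = θ' ⟨x, hx⟩ := by
    intro x hx
    induction hx using Subgroup.closure_induction with
    | mem g hg =>
      intro hx
      rcases EX_gen_cases f hf g hg with ⟨i, t, rfl⟩ | ⟨i, t, rfl⟩ | ⟨j, u, hu, rfl⟩ | ⟨j, u, hu, rfl⟩
      · exact h1 i t
      · exact h2 i t
      · exact h3 j ⟨u, hu⟩
      · exact h4 j ⟨u, hu⟩
    | one =>
      intro hx
      have : (⟨1, hx⟩ : ↥(twistedE6 K q)) = 1 := rfl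
      rw [this, map_one, map_one]
    | mul a b ha hb iha ihb =>
      intro hx
      have ha' : a ∈ twistedE6 K q := ha
      have hb' : b ∈ twistedE6 K q := hb
      have : (⟨a * b, hx⟩ : ↥(twistedE6 K q)) = ⟨a, ha'⟩ * ⟨b, hb'⟩ := rfl
      rw [this, map_mul, map_mul, iha ha', ihb hb']
    | inv a ha iha =>
      intro hx
      have ha' : a ∈ twistedE6 K q := ha
      have : (⟨a⁻¹, hx⟩ : ↥(twistedE6 K q)) = (⟨a, ha'⟩ : ↥(twistedE6 K q))⁻¹ := rfl
      rw [this, map_inv, map_inv, iha ha']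
  apply MulEquiv.ext
  rintro ⟨x, hx⟩
  exact key x hx hx

/-- PIECE EX2: field automorphisms on the root elements (`glEquiv_xGL`; `τ` commutes with `t ↦ t^q`) -/
theorem fieldTw_xaS {K : Type*} [Field K] {q : ℕ} (f : K ≃+* K) (hf : ∀ t, f t = t ^ q) (τ : K ≃+* K)
    (i : Fin 2) (t : K) : fieldTw q τ (xaS f hf i t) = xaS f hf i (τ t) := by
  apply Subtype.ext
  rw [fieldTw_coe, xaS_coe, xaS_coe]
  unfold xa
  rw [map_mul, glEquiv_xGL chevE6 memE6, glEquiv_xGL chevE6 memE6, hf, hf, map_pow]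

theorem fieldTw_yaS {K : Type*} [Field K] {q : ℕ} (f : K ≃+* K) (hf : ∀ t, f t = t ^ q) (τ : K ≃+* K)
    (i : Fin 2) (t : K) : fieldTw q τ (yaS f hf i t) = yaS f hf i (τ t) := by
  apply Subtype.ext
  rw [fieldTw_coe, yaS_coe, yaS_coe]
  unfold ya
  rw [map_mul, glEquiv_xGL chevE6 memE6, glEquiv_xGL chevE6 memE6, hf, hf, map_pow]

theorem fieldTw_xbS {K : Type*} [Field K] {q : ℕ} (f : K ≃+* K) (hf : ∀ t, f t = t ^ q) (τ : K ≃+* K)
    (j : Fin 2) (u : k0 f) :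
    ((fieldTw q τ (xbS f hf j u) : ↥(twistedE6 K q)) : GL chevE6.Idx K) = xGL chevE6 K (sr j) (τ u) := by
  rw [fieldTw_coe, xbS_coe, glEquiv_xGL chevE6 memE6]

theorem fieldTw_ybS {K : Type*} [Field K] {q : ℕ} (f : K ≃+* K) (hf : ∀ t, f t = t ^ q) (τ : K ≃+* K)
    (j : Fin 2) (u : k0 f) :
    ((fieldTw q τ (ybS f hf j u) : ↥(twistedE6 K q)) : GL chevE6.Idx K) = xGL chevE6 K (snr j) (τ u) := by
  rw [fieldTw_coe, ybS_coe, glEquiv_xGL chevE6 memE6]

/-- PIECE EX3: the fixed field has `q` elements (helper19 `ncard_fix_field`, or the roots of `X^q - X`) -/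
theorem card_k0 {K : Type*} [Field K] [Fintype K] {q : ℕ} (f : K ≃+* K) (hf : ∀ t, f t = t ^ q)
    (hq : 1 ≤ q) (hK : Fintype.card K = q ^ 2) : Nat.card ↥(k0 f) = q := by
  have h := ncard_fix_field f hf hq hK
  rw [← h]
  rfl

/-- PIECE EX4: `|X_{a_i}| = q²` (`t ↦ x_{a_i}(t)` is a bijection `K → X_{a_i}`: `xa_inj`, `mem_XA`), nodes `0`, `1` -/
theorem card_XpA {K : Type*} [Field K] [Fintype K] {q : ℕ} (f : K ≃+* K) (hf : ∀ t, f t = t ^ q)
    (hK : Fintype.card K = q ^ 2) (i : Fin 2) :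
    Nat.card ↥(XpTw f q (Fin.castLE (by decide) i)) = q ^ 2 := by
  have hbij : Function.Bijective (fun t : K =>
      (⟨xaS f hf i t, (mem_XpA f hf i _).mpr ⟨t, rfl⟩⟩ : ↥(XpTw f q (Fin.castLE (by decide) i)))) := by
    constructor
    · intro s t hst
      have h1 := congrArg (fun x : ↥(XpTw f q (Fin.castLE (by decide) i)) =>
        ((x : ↥(twistedE6 K q)) : GL chevE6.Idx K)) hst
      exact xa_inj f i h1
    · rintro ⟨x, hx⟩
      obtain ⟨t, rfl⟩ := (mem_XpA f hf i x).mp hx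
      exact ⟨t, rfl⟩
  rw [← Nat.card_congr (Equiv.ofBijective _ hbij), Nat.card_eq_fintype_card, hK]

/-- PIECE EX5: `|X_{b_j}| = q` (`u ↦ x_{b_j}(u)` is a bijection `k₀ → X_{b_j}`; EX3), nodes `2`, `3` -/
theorem card_XpB {K : Type*} [Field K] [Fintype K] {q : ℕ} (f : K ≃+* K) (hf : ∀ t, f t = t ^ q)
    (hq : 1 ≤ q) (hK : Fintype.card K = q ^ 2) (j : Fin 2) :
    Nat.card ↥(XpTw f q (Fin.natAdd 2 j)) = q := by
  have hbij : Function.Bijective (fun u : ↥(k0 f) =>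
      (⟨xbS f hf j u, (mem_XpB f hf j _).mpr ⟨u, rfl⟩⟩ : ↥(XpTw f q (Fin.natAdd 2 j)))) := by
    constructor
    · intro s t hst
      have h1 := congrArg (fun x : ↥(XpTw f q (Fin.natAdd 2 j)) =>
        ((x : ↥(twistedE6 K q)) : GL chevE6.Idx K)) hst
      exact Subtype.ext (xGL_injective chevE6 memE6 (sr j) (sr_lt j) h1)
    · rintro ⟨x, hx⟩
      obtain ⟨u, rfl⟩ := (mem_XpB f hf j x).mp hx
      exact ⟨u, rfl⟩
  rw [← Nat.card_congr (Equiv.ofBijective _ hbij), card_k0 f hf hq hK]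

end Cfsg.Agent.Helper36.TwE6
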