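import Cfsg.Agent.Helper36.TwE6.P_Ext
import Cfsg.Agent.Helper18.Aut.Level1

/-!
Helper36 / twisted E6 automorphisms (S2130), PIECE PI (an automorphism permuting the fundamental root subgroups
fixes each of them). The twisted diagram is `0 — 1 ⇒ 2 — 3` with `|X_0| = |X_1| = q²`, `|X_2| = |X_3| = q`.
-/

set_option autoImplicit false
set_option maxRecDepth 100000

namespace Cfsg.Agent.Helper36.TwE6

open Cfsg Cfsg.Lie Cfsg.Agent.Helper18 Cfsg.Agent.Helper18.Aut Cfsg.Agent.Helper19.Twist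
  Cfsg.Agent.Helper19.Poinc Cfsg.Agent.Helper19.Cox Cfsg.Agent.S1081 Cfsg.Agent.Helper6
  Cfsg.Agent.Helper40.SL2Hom Cfsg.Agent.S1080 Cfsg.Agent.Helper18.Sub

/-- PIECE PI1: positive fundamental root subgroups of non-adjacent nodes commute: the pairs `(3,0)`, `(3,1)`, `(2,0)`
(`p₂ + p₁`, `p₂ + p₆`, `p₂ + p₃`, `p₂ + p₅`, `p₄ + p₁`, `p₄ + p₆` are not roots: `xGL_comm_of_commTerms` /
`xGL_comm_pp_iff` with `chevE6.bonds`, or `xGL_commute` + `decide`) -/
theorem Xp_comm {K : Type*} [Field K] {q : ℕ} (f : K ≃+* K) (a b : Fin 4)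
    (hab : (a, b) ∈ [((3 : Fin 4), (0 : Fin 4)), (3, 1), (2, 0)])
    (x : ↥(twistedE6 K q)) (hx : x ∈ XpTw f q a) (y : ↥(twistedE6 K q)) (hy : y ∈ XpTw f q b) :
    x * y = y * x := by
  have key : ∀ (j i : Fin 2), commOK chevE6 (sr j) (pr i) = true → commOK chevE6 (sr j) (pr' i) = true →
      (x : GL chevE6.Idx K) ∈ XB f j → (y : GL chevE6.Idx K) ∈ XA f i → x * y = y * x := by
    intro j i h1 h2 hx' hy'
    obtain ⟨u, -, hu⟩ := (mem_XB f j _).mp hx'
    obtain ⟨t, ht⟩ := (mem_XA f i _).mp hy'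
    apply Subtype.ext
    rw [Subgroup.coe_mul, Subgroup.coe_mul, hu, ht]
    unfold xa
    have c1 := (Cfsg.Agent.Helper19.Twist.xGL_commute chevE6 memE6 (sr j) (pr i) h1 u t).eq
    have c2 := (Cfsg.Agent.Helper19.Twist.xGL_commute chevE6 memE6 (sr j) (pr' i) h2 u (f t)).eq
    rw [← mul_assoc, c1, mul_assoc, c2, mul_assoc]
  simp only [List.mem_cons, Prod.mk.injEq, List.mem_nil_iff, or_false] at hab
  rcases hab with ⟨rfl, rfl⟩ | ⟨rfl, rfl⟩ | ⟨rfl, rfl⟩
  · exact key 1 0 (by decide +kernel) (by decide +kernel) (Subgroup.mem_subgroupOf.mp hx) (Subgroup.mem_subgroupOf.mp hy)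
  · exact key 1 1 (by decide +kernel) (by decide +kernel) (Subgroup.mem_subgroupOf.mp hx) (Subgroup.mem_subgroupOf.mp hy)
  · exact key 0 0 (by decide +kernel) (by decide +kernel) (Subgroup.mem_subgroupOf.mp hx) (Subgroup.mem_subgroupOf.mp hy)

/-- PIECE PI2: `X_2 = X_{p₄}` and `X_1 = X_{p₃}X_{p₅}` do not commute
(`x_{p₄}(1)` and `x_{a₁}(1)`: `p₄ + p₃` is a root; `xGL_comm_pp_iff`, or compare one matrix entry) -/
theorem Xp_ncomm {K : Type*} [Field K] [Fintype K] {q : ℕ} (f : K ≃+* K) (hf : ∀ t, f t = t ^ q) :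
    ∃ x ∈ XpTw f q 2, ∃ y ∈ XpTw f q 1, x * y ≠ y * x := by
  have h1k : (1 : K) ∈ k0 f := (k0 f).one_mem
  refine ⟨xbS f hf 0 ⟨1, h1k⟩, (mem_XpB f hf 0 _).mpr ⟨_, rfl⟩, xaS f hf 1 1, (mem_XpA f hf 1 _).mpr ⟨_, rfl⟩, ?_⟩
  intro hcomm
  have hc := congrArg (fun x : ↥(twistedE6 K q) => (x : GL chevE6.Idx K)) hcomm
  simp only [Subgroup.coe_mul] at hc
  have hA : ((xbS f hf 0 ⟨1, h1k⟩ : ↥(twistedE6 K q)) : GL chevE6.Idx K) = xGL chevE6 K 39 1 := rfl
  have hy : ((xaS f hf 1 1 : ↥(twistedE6 K q)) : GL chevE6.Idx K) = xGL chevE6 K 42 1 * xGL chevE6 K 37 1 := by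
    show xa f 1 1 = _
    unfold xa
    rw [map_one]
    rfl
  rw [hA, hy] at hc
  -- the three commutator formulas
  have w1 : ∀ (r : ℕ) (c : K), wordGL chevE6 K [(r, c)] = xGL chevE6 K r c := by
    intro r c; simp [wordGL]
  have c1 := comm_xGL chevE6 memE6 (h25E6 (K := K)) 39 42 (by decide) (by decide) (by decide) (by decide) 1 1
  have c2 := comm_xGL chevE6 memE6 (h25E6 (K := K)) 39 37 (by decide) (by decide) (by decide) (by decide) 1 1
  have c3 := comm_xGL chevE6 memE6 (h25E6 (K := K)) 37 43 (by decide) (by decide) (by decide) (by decide) 1 (-1)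
  have t1 : chevE6.commTerms 39 42 = [(43, 1, 1, 1)] := by decide +kernel
  have t2 : chevE6.commTerms 39 37 = [(40, -1, 1, 1)] := by decide +kernel
  have t3 : chevE6.commTerms 37 43 = [(44, 1, 1, 1)] := by decide +kernel
  unfold ChevalleyDatum.commWord at c1 c2 c3
  rw [t1] at c1
  rw [t2] at c2
  rw [t3] at c3
  simp only [List.map_cons, List.map_nil, w1, Int.cast_one, Int.cast_neg, pow_one, one_mul, mul_one, neg_neg,
    mul_neg, neg_mul] at c1 c2 c3
  -- `A⁻¹ y A = y x₄₃(-1) x₄₄(1) x₄₀(1)`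
  have e1 : (xGL chevE6 K 39 1)⁻¹ * (xGL chevE6 K 42 1 * xGL chevE6 K 37 1) * xGL chevE6 K 39 1 =
      xGL chevE6 K 42 1 * xGL chevE6 K 37 1 := by
    rw [mul_assoc, ← hc]; group
  have e2 : (xGL chevE6 K 39 1)⁻¹ * (xGL chevE6 K 42 1 * xGL chevE6 K 37 1) * xGL chevE6 K 39 1 =
      ((xGL chevE6 K 39 1)⁻¹ * xGL chevE6 K 42 1 * xGL chevE6 K 39 1) *
        ((xGL chevE6 K 39 1)⁻¹ * xGL chevE6 K 37 1 * xGL chevE6 K 39 1) := by group
  rw [e2, c1, c2] at e1
  have e3 : xGL chevE6 K 43 (-1) * xGL chevE6 K 37 1 =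
      xGL chevE6 K 37 1 * ((xGL chevE6 K 37 1)⁻¹ * xGL chevE6 K 43 (-1) * xGL chevE6 K 37 1) := by group
  have e4 : xGL chevE6 K 42 1 * xGL chevE6 K 43 (-1) * (xGL chevE6 K 37 1 * xGL chevE6 K 40 1) =
      xGL chevE6 K 42 1 * (xGL chevE6 K 43 (-1) * xGL chevE6 K 37 1) * xGL chevE6 K 40 1 := by group
  rw [e4, e3, c3] at e1
  have e5 : xGL chevE6 K 43 (-1) * xGL chevE6 K 44 1 * xGL chevE6 K 40 1 = 1 := by
    have : xGL chevE6 K 42 1 * (xGL chevE6 K 37 1 * (xGL chevE6 K 43 (-1) * xGL chevE6 K 44 1)) * xGL chevE6 K 40 1 =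
        (xGL chevE6 K 42 1 * xGL chevE6 K 37 1) * (xGL chevE6 K 43 (-1) * xGL chevE6 K 44 1 * xGL chevE6 K 40 1) := by
      group
    rw [this] at e1
    exact mul_eq_left.mp e1
  have c4 := (Cfsg.Agent.Helper19.Twist.xGL_commute chevE6 memE6 44 40 (by decide +kernel) (1 : K) 1).eq
  have e6 : xGL chevE6 K 43 (-1) * (xGL chevE6 K 40 1 * (xGL chevE6 K 44 1 * 1)) = 1 := by
    rw [mul_one, ← c4, ← mul_assoc]; exact e5
  -- uniqueness of ordered products over the closed list `[43, 40, 44]`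
  have hP : ClosedList chevE6 phiTE6 [43, 40, 44] := closedOK_spec (by decide +kernel)
  let t : ℕ → K := fun s => if s = 43 then -1 else if s = 40 then 1 else if s = 44 then 1 else 0
  let t' : ℕ → K := fun _ => 0
  have hp1 : pwG chevE6 K [43, 40, 44] t = 1 := by
    rw [pwG_cons, pwG_cons, pwG_cons, pwG_nil]
    simpa [t] using e6
  have hp2 : pwG chevE6 K [43, 40, 44] t' = 1 := by
    rw [pwG_cons, pwG_cons, pwG_cons, pwG_nil]
    have R := fun r (hr : r < chevE6.nroots) => (relE (K := K) r hr).x_zero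
    simp only [t']
    rw [R 43 (by decide), R 40 (by decide), R 44 (by decide)]
    simp
  have h1 := pwG_injOn (K := K) memE6 gradeOK'_E6 [43, 40, 44] hP t t' (by
      intro r hr
      simp only [List.mem_cons, List.not_mem_nil, or_false, not_or] at hr
      simp [t, hr.1, hr.2.1, hr.2.2]) (fun _ _ => rfl) (hp1.trans hp2.symm)
  have := congrFun h1 40
  simp [t, t'] at this

/-- PIECE PI3: the permutation is trivial. Sizes (`card_XpA`, `card_XpB`, `card_im`; `q² ≠ q`): `π` preserves `{0,1}` and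
`{2,3}`. Commutation is preserved (`mem_im`): if `π 3 = 2` then `X_2` would commute with both of `X_0`, `X_1` (PI1 for
`(3,0)`, `(3,1)`), contradicting PI2; so `π 3 = 3`, `π 2 = 2`; if `π 1 = 0` then, as `X_2`, `X_1` do not commute, `X_2`, `X_0`
would not commute, contradicting PI1 for `(2,0)`. -/
theorem perm_eq_one {K : Type*} [Field K] [Fintype K] {q : ℕ} (f : K ≃+* K) (hf : ∀ t, f t = t ^ q)
    (hq : 2 ≤ q) (hK : Fintype.card K = q ^ 2) (θ : ↥(twistedE6 K q) ≃* ↥(twistedE6 K q))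
    (π : Equiv.Perm (Fin 4)) (h : ∀ a, im θ (XpTw f q a) = XpTw f q (π a)) : π = 1 := by
  classical
  -- commutation of the fundamental root subgroups is preserved
  let C : Fin 4 → Fin 4 → Prop := fun a b => ∀ x ∈ XpTw f q a, ∀ y ∈ XpTw f q b, x * y = y * x
  have hCπ : ∀ a b, C a b → C (π a) (π b) := by
    intro a b hab x hx y hy
    rw [← h a, mem_im] at hx
    rw [← h b, mem_im] at hy
    have e := congrArg θ (hab _ hx _ hy)
    simpa using e
  have C30 : C 3 0 := fun x hx y hy => Xp_comm f 3 0 (by simp) x hx y hy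
  have C31 : C 3 1 := fun x hx y hy => Xp_comm f 3 1 (by simp) x hx y hy
  have C20 : C 2 0 := fun x hx y hy => Xp_comm f 2 0 (by simp) x hx y hy
  have nC21 : ¬ C 2 1 := by
    intro hc
    obtain ⟨x, hx, y, hy, hne⟩ := Xp_ncomm f hf
    exact hne (hc x hx y hy)
  -- the sizes
  let sz : Fin 4 → ℕ := fun a => if a.val < 2 then q ^ 2 else q
  have hq1 : 1 ≤ q := by omega
  have hsz : ∀ a, Nat.card ↥(XpTw f q a) = sz a := by
    apply forall_node
    · intro i
      rw [card_XpA f hf hK i]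
      fin_cases i <;> simp [sz]
    · intro j
      rw [card_XpB f hf hq1 hK j]
      fin_cases j <;> simp [sz]
  have hszπ : ∀ a, sz (π a) = sz a := by
    intro a
    rw [← hsz, ← hsz, ← h a, card_im]
  have hne : q ^ 2 ≠ q := by
    intro e
    have h2 : q * q = q * 1 := by rw [← sq, e, mul_one]
    have := Nat.eq_of_mul_eq_mul_left (by omega) h2
    omega
  have cls : ∀ a, ((π a).val < 2 ↔ a.val < 2) := by
    intro a
    have e := hszπ a
    simp only [sz] at e
    by_cases h1 : (π a).val < 2 <;> by_cases h2 : a.val < 2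
    · exact ⟨fun _ => h2, fun _ => h1⟩
    · rw [if_pos h1, if_neg h2] at e; exact absurd e hne
    · rw [if_neg h1, if_pos h2] at e; exact absurd e.symm hne
    · exact ⟨fun x => absurd x h1, fun x => absurd x h2⟩
  have inj := π.injective
  have v0 : (π 0).val < 2 := (cls 0).mpr (by decide)
  have v1 : (π 1).val < 2 := (cls 1).mpr (by decide)
  have v2 : ¬ (π 2).val < 2 := fun hh => absurd ((cls 2).mp hh) (by decide)
  have v3 : ¬ (π 3).val < 2 := fun hh => absurd ((cls 3).mp hh) (by decide)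
  have n01 : π 0 ≠ π 1 := fun e => absurd (inj e) (by decide)
  have n23 : π 2 ≠ π 3 := fun e => absurd (inj e) (by decide)
  have e3 : π 3 = 3 := by
    by_contra hcon
    have e32 : π 3 = 2 := by
      apply Fin.ext
      have := (π 3).isLt
      have hv : (π 3).val ≠ 3 := fun hh => hcon (Fin.ext hh)
      show (π 3).val = 2
      omega
    have a0 := hCπ 3 0 C30
    have a1 := hCπ 3 1 C31
    rw [e32] at a0 a1
    have : π 0 = 1 ∨ π 1 = 1 := by
      by_cases h0 : π 0 = 1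
      · exact Or.inl h0
      · right
        apply Fin.ext
        show (π 1).val = 1
        have hv0 : (π 0).val ≠ 1 := fun hh => h0 (Fin.ext hh)
        have hv01 : (π 0).val ≠ (π 1).val := fun hh => n01 (Fin.ext hh)
        omega
    rcases this with e | e
    · rw [e] at a0; exact nC21 a0
    · rw [e] at a1; exact nC21 a1
  have e2 : π 2 = 2 := by
    apply Fin.ext
    show (π 2).val = 2
    have := (π 2).isLt
    have hv : (π 2).val ≠ (π 3).val := fun hh => n23 (Fin.ext hh)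
    rw [e3] at hv
    have : ((3 : Fin 4)).val = 3 := rfl
    omega
  have e0 : π 0 = 0 := by
    by_contra hcon
    have e01 : π 0 = 1 := by
      apply Fin.ext
      show (π 0).val = 1
      have hv : (π 0).val ≠ 0 := fun hh => hcon (Fin.ext hh)
      omega
    have a0 := hCπ 2 0 C20
    rw [e2, e01] at a0
    exact nC21 a0
  have e1 : π 1 = 1 := by
    apply Fin.ext
    show (π 1).val = 1
    have hv : (π 0).val ≠ (π 1).val := fun hh => n01 (Fin.ext hh)
    rw [e0] at hv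
    have : ((0 : Fin 4)).val = 0 := rfl
    omega
  ext a
  fin_cases a
  · show ((π 0 : Fin 4) : ℕ) = _; rw [e0]; rfl
  · show ((π 1 : Fin 4) : ℕ) = _; rw [e1]; rfl
  · show ((π 2 : Fin 4) : ℕ) = _; rw [e2]; rfl
  · show ((π 3 : Fin 4) : ℕ) = _; rw [e3]; rfl

end Cfsg.Agent.Helper36.TwE6
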