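import Cfsg.Agent.Helper36.TwE6.L2Defs
import Cfsg.Agent.Helper36.OutDiag

/-!
Helper36 / twisted E6 automorphisms (S2130), PIECE TO (the action of the torus `H ∩ G¹` on the fundamental root
elements).  (Piece proved by helper75.)
-/

set_option autoImplicit false
set_option maxRecDepth 100000

namespace Cfsg.Agent.Helper36.TwE6

open Cfsg Cfsg.Lie Cfsg.Agent.Helper18 Cfsg.Agent.Helper18.Aut Cfsg.Agent.Helper19.Twist
  Cfsg.Agent.Helper19.Poinc Cfsg.Agent.Helper19.Cox Cfsg.Agent.S1081 Cfsg.Agent.Helper6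
  Cfsg.Agent.Helper40.SL2Hom Cfsg.Agent.S1080 Cfsg.Agent.Helper18.Sub

theorem TO_pi0_pr (i : Fin 2) : pi0 (pr i) = pr' i := by fin_cases i <;> rfl

theorem TO_pi0_sr (j : Fin 2) : pi0 (sr j) = sr j := by fin_cases j <;> rfl

theorem TO_conj_mul {G : Type*} [Group G] (h a b : G) :
    h * (a * b) * h⁻¹ = (h * a * h⁻¹) * (h * b * h⁻¹) := by group

/-- PIECE TO: an element `h` of `H ∩ G¹` multiplies the parameters of the fundamental root elements by scalars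
`c_i ∈ K*`, `d_j ∈ k₀*`.
Hint: `diagonalSubgroup_char chevE6 memE6 h hh` gives `χ` with `h x_r(t) = x_r(χ r t) h`, `χ r ≠ 0`, and the matrix of `h`
(diagonal with entries `χ r`); `h` is `σ`-fixed (`twistedE6_le_FixE6`), hence `χ (pi0 r) = f (χ r)` (helper19
`rootEntry_sigma`, `Twist/Torus.lean`; `pi0 56 = 36`, `pi0 42 = 37`, `pi0 39 = 39`, `pi0 46 = 46`); `χ (-r) = (χ r)⁻¹`
(e.g. from `h w_r(1) ...`, or `Cfsg.Agent.Helper36.OutCore.diag_acts` + `tchar_neg` in `Helper36/OutDiag.lean`). -/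
theorem torus_acts {K : Type*} [Field K] [Fintype K] {q : ℕ} (f : K ≃+* K) (hf : ∀ t, f t = t ^ q)
    (hK : Fintype.card K = q ^ 2) (h : GL chevE6.Idx K) (hh : h ∈ chevE6.diagonalSubgroup K)
    (hG : h ∈ twistedE6 K q) :
    ∃ (c : Fin 2 → Kˣ) (d : Fin 2 → (↥(k0 f))ˣ),
      (∀ i t, h * xa f i t * h⁻¹ = xa f i ((c i : K) * t)) ∧
      (∀ i t, h * ya f i t * h⁻¹ = ya f i (((c i)⁻¹ : Kˣ) * t)) ∧
      (∀ j (u : K), h * xGL chevE6 K (sr j) u * h⁻¹ = xGL chevE6 K (sr j) (((d j : ↥(k0 f)) : K) * u)) ∧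
      (∀ j (u : K), h * xGL chevE6 K (snr j) u * h⁻¹ =
        xGL chevE6 K (snr j) (((((d j)⁻¹ : (↥(k0 f))ˣ) : ↥(k0 f)) : K) * u)) := by
  obtain ⟨χ, hχ, hd, hc⟩ := diagonalSubgroup_char chevE6 memE6 h hh
  obtain ⟨z, hz, hmat, -⟩ := Cfsg.Agent.Helper36.OutCore.diag_acts chevE6 memE6 h hh
  have hχt : ∀ r < chevE6.nroots, χ r = Cfsg.Agent.Helper36.OutCore.tchar chevE6 z r := by
    intro r hr
    have hdiag := hd
    rw [hmat] at hdiag
    unfold hProd at hdiag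
    have h1 := Matrix.diagonal_injective hdiag
    have h2 := congrFun h1 (Sum.inr ⟨r, hr⟩)
    simp only [Sum.elim_inr] at h2
    exact h2.symm
  have hneg : ∀ r < chevE6.nroots, χ (chevE6.neg r) = (χ r)⁻¹ := by
    intro r hr
    have hn := (triOK_spec chevE6 _ (triOK_of_mem chevE6 memE6) r hr).1
    rw [hχt _ hn, hχt r hr, Cfsg.Agent.Helper36.OutDiag.tchar_neg chevE6 memE6 z r hr]
  have hfix : sigE6 f h = h := (mem_FixE6 f h).mp (twistedE6_le_FixE6 f hf hK hG)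
  obtain ⟨hp1, -⟩ := Cfsg.Agent.Helper40.GraphAut.permsOK_spec permsOK_E6
  have hsig : ∀ u < chevE6.nroots, χ (pi0 u) = f (χ u) := by
    intro u hu
    have := rootEntry_sigma chevE6 memE6 rho0 rhoInv0 pi0 piInv0 eps0 permsOK_E6 f h hh hfix u hu
    rw [hd, rootEntry_diagonal chevE6 χ _ (hp1 u hu).1, rootEntry_diagonal chevE6 χ _ hu] at this
    exact this
  have hconj : ∀ r < chevE6.nroots, ∀ t : K,
      h * xGL chevE6 K r t * h⁻¹ = xGL chevE6 K r (χ r * t) := by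
    intro r hr t
    rw [hc r hr t, mul_inv_cancel_right]
  have hpr' : ∀ i, χ (pr' i) = f (χ (pr i)) := by
    intro i
    rw [← TO_pi0_pr i]
    exact hsig _ (pr_lt i)
  have hsr : ∀ j, f (χ (sr j)) = χ (sr j) := by
    intro j
    rw [← hsig _ (sr_lt j), TO_pi0_sr]
  have hnr : ∀ i, χ (nr i) = (χ (pr i))⁻¹ := by
    intro i
    rw [← neg_pr i]
    exact hneg _ (pr_lt i)
  have hnr' : ∀ i, χ (nr' i) = (f (χ (pr i)))⁻¹ := by
    intro i
    rw [← neg_pr' i, hneg _ (pr'_lt i), hpr' i]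
  have hsnr : ∀ j, χ (snr j) = (χ (sr j))⁻¹ := by
    intro j
    rw [← neg_sr j]
    exact hneg _ (sr_lt j)
  have hd0 : ∀ j, (⟨χ (sr j), hsr j⟩ : ↥(k0 f)) ≠ 0 := by
    intro j h0
    exact hχ (sr j) (congrArg Subtype.val h0)
  refine ⟨fun i => Units.mk0 (χ (pr i)) (hχ _), fun j => Units.mk0 ⟨χ (sr j), hsr j⟩ (hd0 j),
    ?_, ?_, ?_, ?_⟩
  · intro i t
    unfold xa
    rw [TO_conj_mul, hconj _ (pr_lt i), hconj _ (pr'_lt i), hpr' i, Units.val_mk0, map_mul]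
  · intro i t
    unfold ya
    rw [TO_conj_mul, hconj _ (nr_lt i), hconj _ (nr'_lt i), hnr i, hnr' i, Units.val_inv_eq_inv_val,
      Units.val_mk0, map_mul, map_inv₀]
  · intro j u
    rw [hconj _ (sr_lt j), Units.val_mk0]
  · intro j u
    rw [hconj _ (snr_lt j), hsnr j, Units.val_inv_eq_inv_val, Units.val_mk0]
    rfl

end Cfsg.Agent.Helper36.TwE6
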