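import Cfsg.Agent.Helper36.TwE6.AutBasic
import Cfsg.Agent.Helper36.TwE6.Inner
import Cfsg.Agent.Helper36.TwE6.P_Cross
import Cfsg.Agent.Helper36.TwE6.P_Ext
import Cfsg.Agent.Helper36.TwE6.P_Perm
import Cfsg.Agent.Helper36.TwE6.P_DiagAut
import Cfsg.Agent.Helper36.TwE6.P_Torus
import Cfsg.Agent.Helper36.TwE6.Count
import Cfsg.Agent.Helper37.OutPslA
import Cfsg.Agent.S1102
import Cfsg.Agent.S1070

/-!
Helper36: the automorphisms of `²E₆(q)` and the order of the outer automorphism group (assembly for S2130).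
Every automorphism is, up to an inner one, in the subgroup `NA` of the automorphisms stabilising the fundamental root
subgroups; `NA` is in bijection with (field automorphisms) × (`σ`-compatible scalars), and `NA ∩ Inn` with `H ∩ G¹`.
-/

set_option autoImplicit false
set_option maxRecDepth 100000

namespace Cfsg.Agent.Helper36.TwE6

open Cfsg Cfsg.Lie Cfsg.Agent.Helper18 Cfsg.Agent.Helper18.Aut Cfsg.Agent.Helper19.Twist
  Cfsg.Agent.Helper19.Poinc Cfsg.Agent.Helper19.Cox Cfsg.Agent.S1081 Cfsg.Agent.Helper6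
  Cfsg.Agent.Helper40.SL2Hom Cfsg.Agent.S1080 Cfsg.Agent.Helper18.Sub

section

variable {K : Type*} [Field K] [Fintype K] {q : ℕ} (f : K ≃+* K) (hf : ∀ t, f t = t ^ q)

include hf in
/-- every automorphism is, up to an inner automorphism, in `NA` -/
theorem cover (p : ℕ) [Fact p.Prime] [CharP K p] (hq : IsPrimePow q) (hK : Fintype.card K = q ^ 2)
    (θ : MulAut ↥(twistedE6 K q)) : ∃ g : ↥(twistedE6 K q), MulAut.conj g * θ ∈ NA f q := by
  obtain ⟨P, -, -, H⟩ := twE6_L1Hyp f hf p hq hK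
  obtain ⟨g, π, hπ⟩ := H.main θ
  have hπ1 : π = 1 := perm_eq_one f hf hq.two_le hK _ π (fun a => (hπ a).1)
  refine ⟨g, ?_⟩
  intro a
  have h := hπ a
  rw [hπ1] at h
  exact h

/-- the parameters: a field automorphism and `σ`-compatible scalars -/
abbrev Par (f : K ≃+* K) : Type _ := (K ≃+* K) × (Fin 2 → Kˣ) × (Fin 2 → (↥(k0 f))ˣ)

/-- `θ` acts on the root elements through the parameters `P = (τ, c, d)` -/
def HasPar (θ : ↥(twistedE6 K q) ≃* ↥(twistedE6 K q)) (P : Par f) : Prop :=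
  (∀ i t, θ (xaS f hf i t) = xaS f hf i ((P.2.1 i : K) * P.1 t)) ∧
  (∀ i t, θ (yaS f hf i t) = yaS f hf i (((P.2.1 i)⁻¹ : Kˣ) * P.1 t)) ∧
  (∀ j (u : k0 f), ((θ (xbS f hf j u) : ↥(twistedE6 K q)) : GL chevE6.Idx K) =
    xGL chevE6 K (sr j) (((P.2.2 j : ↥(k0 f)) : K) * P.1 u)) ∧
  (∀ j (u : k0 f), ((θ (ybS f hf j u) : ↥(twistedE6 K q)) : GL chevE6.Idx K) =
    xGL chevE6 K (snr j) ((((P.2.2 j)⁻¹ : (↥(k0 f))ˣ) : ↥(k0 f)) * P.1 u))

theorem exists_par (θ : MulAut ↥(twistedE6 K q)) (hθ : θ ∈ NA f q) : ∃ P : Par f, HasPar f hf θ P := by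
  obtain ⟨h1, h2, h3, h4⟩ := NA_maps f hf θ hθ
  obtain ⟨τ, c, d, e1, e2, e3, e4⟩ := func_eq f hf θ h1 h2 h3 h4
  exact ⟨(τ, c, d), e1, e2, e3, e4⟩

theorem par_unique (θ : ↥(twistedE6 K q) ≃* ↥(twistedE6 K q)) (P P' : Par f)
    (h : HasPar f hf θ P) (h' : HasPar f hf θ P') : P = P' := by
  obtain ⟨τ, c, d⟩ := P
  obtain ⟨τ', c', d'⟩ := P'
  have ha : ∀ i t, (c i : K) * τ t = (c' i : K) * τ' t := by
    intro i t
    have := (h.1 i t).symm.trans (h'.1 i t)
    exact xa_inj f i (congrArg Subtype.val this)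
  have hb : ∀ j (u : k0 f), ((d j : ↥(k0 f)) : K) * τ u = ((d' j : ↥(k0 f)) : K) * τ' u := by
    intro j u
    have := (h.2.2.1 j u).symm.trans (h'.2.2.1 j u)
    exact Cfsg.Agent.Helper18.Aut.xGL_injective chevE6 memE6 _ (sr_lt j) this
  have hc : c = c' := by
    funext i
    apply Units.ext
    have := ha i 1
    simpa using this
  have hτ : τ = τ' := by
    ext t
    have := ha 0 t
    rw [hc] at this
    exact mul_left_cancel₀ (c' 0).ne_zero this
  have hd : d = d' := by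
    funext j
    apply Units.ext
    apply Subtype.ext
    have := hb j 1
    simpa using this
  rw [hc, hτ, hd]

theorem ext_par (θ θ' : ↥(twistedE6 K q) ≃* ↥(twistedE6 K q)) (P : Par f)
    (h : HasPar f hf θ P) (h' : HasPar f hf θ' P) : θ = θ' := by
  apply aut_ext_twE6 f hf
  · intro i t; rw [h.1, h'.1]
  · intro i t; rw [h.2.1, h'.2.1]
  · intro j u; apply Subtype.ext; rw [h.2.2.1, h'.2.2.1]
  · intro j u; apply Subtype.ext; rw [h.2.2.2, h'.2.2.2]

omit [Fintype K] in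
include hf in
/-- field automorphisms preserve the fixed field -/
theorem map_mem_k0 (τ : K ≃+* K) (u : k0 f) : τ u ∈ k0 f := by
  rw [mem_k0, hf, ← map_pow, ← hf, (mem_k0 f u).mp u.2]

/-- the standard automorphism with given parameters: a diagonal automorphism times a field automorphism -/
theorem exists_std (hK : Fintype.card K = q ^ 2) (P : Par f) :
    ∃ θ : ↥(twistedE6 K q) ≃* ↥(twistedE6 K q), HasPar f hf θ P ∧ θ ∈ NA f q ∧
      (∀ x : ↥(twistedE6 K q), (x : GL chevE6.Idx K) ∈ chevE6.posUnipotent K →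
        ((θ x : ↥(twistedE6 K q)) : GL chevE6.Idx K) ∈ chevE6.posUnipotent K) ∧
      (∀ x : ↥(twistedE6 K q), (x : GL chevE6.Idx K) ∈ chevE6.negUnipotent K →
        ((θ x : ↥(twistedE6 K q)) : GL chevE6.Idx K) ∈ chevE6.negUnipotent K) := by
  obtain ⟨τ, c, d⟩ := P
  obtain ⟨δ, d1, d2, d3, d4, dU, dV⟩ := exists_deltaTw f hf hK c d
  let τ0 : ↥(k0 f) → ↥(k0 f) := fun u => ⟨τ u, map_mem_k0 f hf τ u⟩
  have hτ0 : Function.Surjective τ0 := by
    intro u
    refine ⟨⟨τ.symm u, ?_⟩, ?_⟩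
    · exact map_mem_k0 f hf τ.symm u
    · apply Subtype.ext
      show τ (τ.symm u) = u
      simp
  have fb : ∀ j (u : k0 f), fieldTw q τ (xbS f hf j u) = xbS f hf j (τ0 u) := by
    intro j u
    apply Subtype.ext
    rw [fieldTw_xbS f hf]
    rfl
  have fyb : ∀ j (u : k0 f), fieldTw q τ (ybS f hf j u) = ybS f hf j (τ0 u) := by
    intro j u
    apply Subtype.ext
    rw [fieldTw_ybS f hf]
    rfl
  set θ : ↥(twistedE6 K q) ≃* ↥(twistedE6 K q) := (fieldTw q τ).trans δ with hθ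
  have a1 : ∀ i t, θ (xaS f hf i t) = xaS f hf i ((c i : K) * τ t) := by
    intro i t
    show δ (fieldTw q τ (xaS f hf i t)) = _
    rw [fieldTw_xaS f hf, d1]
  have a2 : ∀ i t, θ (yaS f hf i t) = yaS f hf i (((c i)⁻¹ : Kˣ) * τ t) := by
    intro i t
    show δ (fieldTw q τ (yaS f hf i t)) = _
    rw [fieldTw_yaS f hf, d2]
  have a3 : ∀ j (u : k0 f), θ (xbS f hf j u) = xbS f hf j ((d j : ↥(k0 f)) * τ0 u) := by
    intro j u
    show δ (fieldTw q τ (xbS f hf j u)) = _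
    rw [fb, d3]
  have a4 : ∀ j (u : k0 f), θ (ybS f hf j u) = ybS f hf j ((((d j)⁻¹ : (↥(k0 f))ˣ) : ↥(k0 f)) * τ0 u) := by
    intro j u
    show δ (fieldTw q τ (ybS f hf j u)) = _
    rw [fyb, d4]
  have surjK : ∀ (a : Kˣ), Function.Surjective (fun t : K => (a : K) * τ t) := by
    intro a t
    refine ⟨τ.symm ((a⁻¹ : Kˣ) * t), ?_⟩
    simp
  have surjk : ∀ (a : (↥(k0 f))ˣ), Function.Surjective (fun u : k0 f => (a : ↥(k0 f)) * τ0 u) := by
    intro a u
    obtain ⟨v, hv⟩ := hτ0 (((a⁻¹ : (↥(k0 f))ˣ) : ↥(k0 f)) * u)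
    refine ⟨v, ?_⟩
    show (a : ↥(k0 f)) * τ0 v = u
    rw [hv, ← mul_assoc, ← Units.val_mul, mul_inv_cancel, Units.val_one, one_mul]
  refine ⟨θ, ⟨a1, a2, ?_, ?_⟩, ?_, ?_, ?_⟩
  · intro j u
    rw [a3]
    rfl
  · intro j u
    rw [a4]
    rfl
  · exact mem_NA_of_param f hf θ _ _ _ _ (fun i => surjK (c i)) (fun i => surjK (c i)⁻¹)
      (fun j => surjk (d j)) (fun j => surjk (d j)⁻¹) a1 a2 a3 a4
  · intro x hx
    exact dU _ (glEquiv_pos chevE6 memE6 τ _ hx)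
  · intro x hx
    exact dV _ (glEquiv_neg chevE6 memE6 τ _ hx)

include hf in
/-- `|NA| = |Aut K| · |K*|² · |k₀*|²` -/
theorem card_NA (hK : Fintype.card K = q ^ 2) : Nat.card ↥(NA f q) = Nat.card (Par f) := by
  classical
  let F : ↥(NA f q) → Par f := fun θ => Classical.choose (exists_par f hf θ.1 θ.2)
  have hF : ∀ θ : ↥(NA f q), HasPar f hf θ.1 (F θ) := fun θ => Classical.choose_spec (exists_par f hf θ.1 θ.2)
  apply Nat.card_congr
  refine Equiv.ofBijective F ⟨?_, ?_⟩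
  · intro θ θ' h
    apply Subtype.ext
    apply ext_par f hf θ.1 θ'.1 (F θ) (hF θ)
    rw [h]
    exact hF θ'
  · intro P
    obtain ⟨θ, hP, hNA, -, -⟩ := exists_std f hf hK P
    refine ⟨⟨θ, hNA⟩, ?_⟩
    exact par_unique f hf θ _ _ (hF ⟨θ, hNA⟩) hP

end

end Cfsg.Agent.Helper36.TwE6
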