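import Cfsg.Agent.Helper19.Twist.SimpleInst
import Cfsg.Agent.Helper19.Twist.ClassE6
import Cfsg.Agent.Helper18.Aut.ChevGL
import Cfsg.Agent.Helper18.BNPairChev
import Cfsg.Agent.Helper18.UpStruct
import Cfsg.Agent.S1025
import Cfsg.Agent.S1031
import Cfsg.Agent.S1038

/-!
Helper36: the twisted group `²E₆(q)` inside `E₆(q²)`: notation for the automorphism theorem (S2130), a clone of
helper18's `Tw/D4Defs.lean` for `³D₄(q)`.
The twisted fundamental root elements: for the two classes of size two, `a₀ = {p₁, p₆}`, `a₁ = {p₃, p₅}`,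
`x_{a_i}(t) = x_r(t) x_{r̄}(t^q)`, `t ∈ K`; for the two fixed nodes `b₀ = p₄`, `b₁ = p₂`, `x_{b_j}(u)`, `u^q = u`.
-/

set_option autoImplicit false
set_option maxRecDepth 100000

namespace Cfsg.Agent.Helper36.TwE6

open Cfsg Cfsg.Lie Cfsg.Agent.Helper18 Cfsg.Agent.Helper18.Aut Cfsg.Agent.Helper19.Twist
  Cfsg.Agent.Helper19.Poinc Cfsg.Agent.Helper19.Cox Cfsg.Agent.S1081

/-- the first roots of the two classes of size two: `p₁`, `p₃` -/
def pr : Fin 2 → ℕ := ![56, 42]
/-- their images under the symmetry: `p₆`, `p₅` -/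
def pr' : Fin 2 → ℕ := ![36, 37]
/-- the negatives `-p₁`, `-p₃` -/
def nr : Fin 2 → ℕ := ![15, 29]
/-- the negatives `-p₆`, `-p₅` -/
def nr' : Fin 2 → ℕ := ![35, 34]
/-- the fixed nodes `p₄`, `p₂` -/
def sr : Fin 2 → ℕ := ![39, 46]
/-- their negatives `-p₄`, `-p₂` -/
def snr : Fin 2 → ℕ := ![32, 25]

section

variable {K : Type*} [Field K] (f : K ≃+* K)

/-- `x_{a_i}(t) = x_r(t) x_{r̄}(f t)` -/
noncomputable def xa (i : Fin 2) (t : K) : GL chevE6.Idx K :=
  xGL chevE6 K (pr i) t * xGL chevE6 K (pr' i) (f t)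

/-- `x_{-a_i}(t) = x_{-r}(t) x_{-r̄}(f t)` -/
noncomputable def ya (i : Fin 2) (t : K) : GL chevE6.Idx K :=
  xGL chevE6 K (nr i) t * xGL chevE6 K (nr' i) (f t)

/-- the hypotheses on the ambient group, all theorems on main -/
theorem h25E6 : CommHyp chevE6 K :=
  fun r s hr hs h1 h2 t u => Cfsg.Agent.S1025.result chevE6 memE6 r s hr hs h1 h2 t u

theorem h31E6 : NConjHyp chevE6 K := fun i s hi hs => Cfsg.Agent.S1031.result chevE6 memE6 i s hi hs

theorem hnE6 : (HN chevE6 K).Normal := Cfsg.Agent.S1038.result chevE6 memE6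

instance instHNE6 : (HN chevE6 K).Normal := hnE6

theorem h42E6 : H42 chevE6 K := exists_bnPair (F := K) chevE6 memE6 h25E6

theorem h45E6 : H45 chevE6 K := fun i hi =>
  ⟨rootSubgroup_le_normalizer_Up chevE6 memE6 h25E6 i hi, Up_sup_rootSubgroup chevE6 memE6 i hi⟩

end

section

variable {K : Type*} [Field K] [Fintype K] {q : ℕ} (f : K ≃+* K) (hf : ∀ t, f t = t ^ q)

omit [Fintype K] in
include hf in
theorem xa_mem (i : Fin 2) (t : K) : xa f i t ∈ twistedE6 K q := by
  fin_cases i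
  · exact xPairE6_mem f hf (e6p1, e6p6) (by simp) t
  · exact xPairE6_mem f hf (e6p3, e6p5) (by simp) t

omit [Fintype K] in
include hf in
theorem ya_mem (i : Fin 2) (t : K) : ya f i t ∈ twistedE6 K q := by
  fin_cases i
  · exact xPairE6_mem f hf (e6m1, e6m6) (by simp) t
  · exact xPairE6_mem f hf (e6m3, e6m5) (by simp) t

omit [Fintype K] in
include hf in
theorem xb_mem (j : Fin 2) (u : K) (hu : f u = u) : xGL chevE6 K (sr j) u ∈ twistedE6 K q := by
  fin_cases j
  · exact xSingleE6_mem f hf e6p4 (by simp) u hu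
  · exact xSingleE6_mem f hf e6p2 (by simp) u hu

omit [Fintype K] in
include hf in
theorem yb_mem (j : Fin 2) (u : K) (hu : f u = u) : xGL chevE6 K (snr j) u ∈ twistedE6 K q := by
  fin_cases j
  · exact xSingleE6_mem f hf e6m4 (by simp) u hu
  · exact xSingleE6_mem f hf e6m2 (by simp) u hu

/-- the distinguished generators of the twisted Weyl group (of type `F₄`), in `G¹` -/
noncomputable def sTw (a : Fin 4) : ↥(twistedE6 K q) :=
  ⟨(repGenE6 K a.val : GL chevE6.Idx K), repGenE6_mem f hf a.val⟩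

include hf in
/-- the `(B, N)`-pair of `²E₆(q)` with its distinguished generators -/
theorem bnPairS_E6 (hq : 2 ≤ q) (hK : Fintype.card K = q ^ 2) :
    ∃ P : Cfsg.BNPair ↥(twistedE6 K q),
      P.B = (chevE6.borelSubgroup K ⊓ twistedE6 K q).subgroupOf (twistedE6 K q) ∧
      P.N = (chevE6.monomialSubgroup K ⊓ twistedE6 K q).subgroupOf (twistedE6 K q) ∧
      P.S = Set.range (sTw f hf) := by
  have hq1 : 1 ≤ q := by omega
  obtain ⟨hdist, hJ, hnegJ⟩ := classGen_spec (D1 := chevF4) certE6 JE6 classGenOK_E6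
  obtain ⟨P, hB, hN, hS⟩ := twisted_bnPair_S chevE6 memE6 certE6 h31E6 rho0 rhoInv0 pi0 piInv0 eps0 permsOK_E6 f allOK0
    twistOK_E6 isoOK_E6 rootInjOK_E6 h42E6 h45E6 (twistedE6 K q) (twistedE6_le_FixE6 f hf hK)
    (U_fix_le_E6 f hf h31E6 hq1 hK) (genSubgroup_le_group memE6 _) chevF4.rank JE6 hJ (by
      intro a ha
      rw [sList_E6 a ha]
      exact repGenE6_mem f hf a) fixSubOK_E6
    (isFix_range_word memE6 certE6 certF4 JE6 pi0 relOK_E6 piOK_E6 orbOK_E6 orthOK_E6)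
    (gp_class_sq certE6 certF4 JE6 relOK_E6) hdist hnegJ (by
      intro a ha
      have hS := classMem_E6 a ha
      have hc := card_class_E6 f hf hq1 hK _ hS
      have hlen := classLen_E6 a ha
      obtain ⟨x, hx, hne⟩ := nontrivial_of_card _ (m := q ^ ((JE6 a).map chevE6.simple).length)
        (le_trans hq (Nat.le_self_pow (by omega) q)) hc
      exact ⟨x, ⟨hx.1, class_le_E6 f hf h31E6 hq1 hK _ hS hx⟩, hne⟩) h25E6
  refine ⟨P, hB, hN, ?_⟩
  rw [hS]
  ext s
  constructor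
  · rintro ⟨a, ha, hs⟩
    have ha4 : a < 4 := ha
    refine ⟨⟨a, ha4⟩, ?_⟩
    apply Subtype.ext
    rw [hs, sList_E6 a ha4]
    rfl
  · rintro ⟨a, rfl⟩
    refine ⟨a.val, a.2, ?_⟩
    rw [sList_E6 a.val a.2]
    rfl

end

end Cfsg.Agent.Helper36.TwE6
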