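import Cfsg.Agent.Helper36.TwE6.Aut

/-!
Helper36: `NA ∩ Inn ≃ H ∩ G¹` and the order of `Out(²E₆(q))`.
-/

set_option autoImplicit false
set_option maxRecDepth 100000

namespace Cfsg.Agent.Helper36.TwE6

open Cfsg Cfsg.Lie Cfsg.Agent.Helper18 Cfsg.Agent.Helper18.Aut Cfsg.Agent.Helper19.Twist
  Cfsg.Agent.Helper19.Poinc Cfsg.Agent.Helper19.Cox Cfsg.Agent.S1081 Cfsg.Agent.Helper6
  Cfsg.Agent.Helper40.SL2Hom Cfsg.Agent.S1080 Cfsg.Agent.Helper18.Sub

theorem center_eq_bot_of_simple' {G : Type*} [Group G] (h : IsSimpleGroup G) (hc : ¬ IsMulCommutative G) :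
    Subgroup.center G = ⊥ := by
  rcases h.eq_bot_or_eq_top_of_normal (Subgroup.center G) inferInstance with h1 | h1
  · exact h1
  · exfalso
    apply hc
    refine ⟨⟨fun a b => ?_⟩⟩
    have : a ∈ Subgroup.center G := by rw [h1]; trivial
    exact ((Subgroup.mem_center_iff.mp this) b).symm

section

variable {K : Type*} [Field K] [Fintype K] {q : ℕ} (f : K ≃+* K) (hf : ∀ t, f t = t ^ q)

include hf in
/-- conjugation by an element of the torus lies in `NA` -/
theorem conj_torus_mem_NA (hK : Fintype.card K = q ^ 2) (h : ↥(twistedE6 K q))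
    (hh : (h : GL chevE6.Idx K) ∈ chevE6.diagonalSubgroup K) : MulAut.conj h ∈ NA f q := by
  obtain ⟨c, d, e1, e2, e3, e4⟩ := torus_acts f hf hK (h : GL chevE6.Idx K) hh h.2
  have surjK : ∀ (a : Kˣ), Function.Surjective (fun t : K => (a : K) * t) := by
    intro a t
    exact ⟨(a⁻¹ : Kˣ) * t, by simp⟩
  have surjk : ∀ (a : (↥(k0 f))ˣ), Function.Surjective (fun u : k0 f => (a : ↥(k0 f)) * u) := by
    intro a u
    refine ⟨((a⁻¹ : (↥(k0 f))ˣ) : ↥(k0 f)) * u, ?_⟩
    show (a : ↥(k0 f)) * (((a⁻¹ : (↥(k0 f))ˣ) : ↥(k0 f)) * u) = u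
    rw [← mul_assoc, ← Units.val_mul, mul_inv_cancel, Units.val_one, one_mul]
  refine mem_NA_of_param f hf (MulAut.conj h) (fun i t => (c i : K) * t) (fun i t => ((c i)⁻¹ : Kˣ) * t)
    (fun j u => (d j : ↥(k0 f)) * u) (fun j u => (((d j)⁻¹ : (↥(k0 f))ˣ) : ↥(k0 f)) * u)
    (fun i => surjK (c i)) (fun i => surjK (c i)⁻¹) (fun j => surjk (d j)) (fun j => surjk (d j)⁻¹) ?_ ?_ ?_ ?_
  · intro i t
    apply Subtype.ext
    exact e1 i t
  · intro i t
    apply Subtype.ext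
    exact e2 i t
  · intro j u
    apply Subtype.ext
    exact e3 j u
  · intro j u
    apply Subtype.ext
    exact e4 j u

include hf in
/-- `|NA ∩ Inn| = |H ∩ G¹|` -/
theorem card_NA_inf_inn (p : ℕ) [Fact p.Prime] [CharP K p] (hq : IsPrimePow q) (hK : Fintype.card K = q ^ 2) :
    Nat.card ↥(NA f q ⊓ Cfsg.Inn ↥(twistedE6 K q)) =
      Nat.card ↥(chevE6.diagonalSubgroup K ⊓ twistedE6 K q) := by
  obtain ⟨hsimple, hnc⟩ := Cfsg.Agent.S1070.result hq hK
  have hcenter : Subgroup.center ↥(twistedE6 K q) = ⊥ := center_eq_bot_of_simple' hsimple hnc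
  symm
  let Φ : ↥(chevE6.diagonalSubgroup K ⊓ twistedE6 K q) → ↥(NA f q ⊓ Cfsg.Inn ↥(twistedE6 K q)) := fun h =>
    ⟨MulAut.conj (⟨h.1, (Subgroup.mem_inf.mp h.2).2⟩ : ↥(twistedE6 K q)),
      Subgroup.mem_inf.mpr ⟨conj_torus_mem_NA f hf hK _ (Subgroup.mem_inf.mp h.2).1, ⟨_, rfl⟩⟩⟩
  apply Nat.card_congr
  refine Equiv.ofBijective Φ ⟨?_, ?_⟩
  · intro h h' e
    have e1 : MulAut.conj (⟨h.1, (Subgroup.mem_inf.mp h.2).2⟩ : ↥(twistedE6 K q)) =
        MulAut.conj (⟨h'.1, (Subgroup.mem_inf.mp h'.2).2⟩ : ↥(twistedE6 K q)) := congrArg Subtype.val e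
    set a : ↥(twistedE6 K q) := ⟨h.1, (Subgroup.mem_inf.mp h.2).2⟩ with ha
    set b : ↥(twistedE6 K q) := ⟨h'.1, (Subgroup.mem_inf.mp h'.2).2⟩ with hb
    have hz : b⁻¹ * a ∈ Subgroup.center ↥(twistedE6 K q) := by
      rw [Subgroup.mem_center_iff]
      intro x
      have := congrArg (fun θ : MulAut ↥(twistedE6 K q) => θ x) e1
      simp only [MulAut.conj_apply] at this
      calc x * (b⁻¹ * a) = b⁻¹ * (b * x * b⁻¹) * a := by group
        _ = b⁻¹ * (a * x * a⁻¹) * a := by rw [this]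
        _ = b⁻¹ * a * x := by group
    rw [hcenter, Subgroup.mem_bot] at hz
    have hab : a = b := by
      have : a = b * (b⁻¹ * a) := by group
      rw [this, hz, mul_one]
    apply Subtype.ext
    have := congrArg (fun x : ↥(twistedE6 K q) => (x : GL chevE6.Idx K)) hab
    exact this
  · rintro ⟨θ, hθ⟩
    obtain ⟨hNA, ⟨g, hg⟩⟩ := Subgroup.mem_inf.mp hθ
    -- `θ = conj g` is a standard automorphism, hence stabilises `U¹` and `V¹`
    obtain ⟨P, hP⟩ := exists_par f hf θ hNA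
    obtain ⟨θ', hP', -, hU', hV'⟩ := exists_std f hf hK P
    have hθθ' : θ = θ' := ext_par f hf θ θ' P hP hP'
    have hconj : ∀ x, θ' x = g * x * g⁻¹ := by
      intro x
      rw [← hθθ', ← hg]
      rfl
    have hstab : ∀ (W : Subgroup (GL chevE6.Idx K)),
        (∀ x : ↥(twistedE6 K q), (x : GL chevE6.Idx K) ∈ W → ((θ' x : ↥(twistedE6 K q)) : GL chevE6.Idx K) ∈ W) →
        cjg g (W.subgroupOf (twistedE6 K q)) = W.subgroupOf (twistedE6 K q) := by
      intro W hW
      have hle : cjg g (W.subgroupOf (twistedE6 K q)) ≤ W.subgroupOf (twistedE6 K q) := by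
        intro x hx
        rw [mem_cjg, Subgroup.mem_subgroupOf] at hx
        rw [Subgroup.mem_subgroupOf]
        have := hW _ hx
        rw [hconj] at this
        have e2 : g * (g⁻¹ * x * g) * g⁻¹ = x := by group
        rwa [e2] at this
      exact Subgroup.eq_of_le_of_card_ge hle (le_of_eq (card_cjg g _).symm)
    have hU := hstab _ hU'
    have hV := hstab _ hV'
    have hgH := mem_diag_of_normalizes p hq hK g hU hV
    refine ⟨⟨(g : GL chevE6.Idx K), Subgroup.mem_inf.mpr ⟨hgH, g.2⟩⟩, ?_⟩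
    apply Subtype.ext
    show MulAut.conj _ = θ
    rw [← hg]

include hf in
/-- the order of the outer automorphism group -/
theorem card_out_twE6 (p n : ℕ) [Fact p.Prime] [CharP K p] (hq : q = p ^ n) (hn : 1 ≤ n)
    (hK : Fintype.card K = q ^ 2) :
    Nat.card (Cfsg.Out ↥(twistedE6 K q)) = 2 * Nat.gcd 3 (q + 1) * n := by
  have hp : p.Prime := Fact.out
  have hqpp : IsPrimePow q := by
    rw [hq]
    exact (Nat.prime_iff.mp hp).isPrimePow.pow (by omega)
  have hq2 : 2 ≤ q := hqpp.two_le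
  have h1 := card_out_mul_card_inf (NA f q) (cover f hf p hqpp hK)
  rw [card_NA_inf_inn f hf p hqpp hK, card_NA f hf hK] at h1
  have h2 := Cfsg.Agent.S1102.result hqpp hK
  -- the number of parameters
  have hKp : Fintype.card K = p ^ (2 * n) := by rw [hK, hq, ← pow_mul, mul_comm]
  have hautK : Nat.card (K ≃+* K) = 2 * n := (Cfsg.Agent.Helper37.OutPsl.card_ringAut hKp (by omega)).1
  have hk0 : Nat.card ↥(k0 f) = q := card_k0 f hf (by omega) hK
  have hfink0 : Finite ↥(k0 f) := inferInstance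
  have hpar : Nat.card (Par f) = 2 * n * ((q ^ 2 - 1) ^ 2 * (q - 1) ^ 2) := by
    rw [Nat.card_prod, Nat.card_prod, hautK, Nat.card_fun, Nat.card_fun, Nat.card_units, Nat.card_units, hk0,
      Nat.card_eq_fintype_card, hK, Nat.card_eq_fintype_card, Fintype.card_fin]
  rw [hpar] at h1
  set o := Nat.card (Cfsg.Out ↥(twistedE6 K q)) with ho
  set t := Nat.card ↥(chevE6.diagonalSubgroup K ⊓ twistedE6 K q) with ht
  set g := Nat.gcd 3 (q + 1) with hg
  have e1 : q ^ 2 - 1 = (q - 1) * (q + 1) := by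
    obtain ⟨m, rfl⟩ : ∃ m, q = m + 1 := ⟨q - 1, by omega⟩
    simp only [Nat.add_sub_cancel]
    have : (m + 1) ^ 2 = m * (m + 1 + 1) + 1 := by ring
    rw [this, Nat.add_sub_cancel]
  have e2 : (q ^ 2 - 1) ^ 2 * (q - 1) ^ 2 = g * t := by
    rw [h2, e1]; ring
  rw [e2] at h1
  have htpos : 0 < t := by
    rcases Nat.eq_zero_or_pos t with h0 | h0
    · exfalso
      rw [h0, mul_zero] at h2
      have : 0 < (q - 1) ^ 4 * (q + 1) ^ 2 := by
        apply Nat.mul_pos <;> apply Nat.pow_pos <;> omega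
      omega
    · exact h0
  have h3 : o * t = (2 * g * n) * t := by rw [h1]; ring
  exact Nat.eq_of_mul_eq_mul_right htpos h3

end

end Cfsg.Agent.Helper36.TwE6
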