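import Cfsg.Agent.Helper36.TwE6.Sub
import Cfsg.Agent.Helper18.Sub.Frob

/-!
Helper36 (clone of helper18's `Tw/D4L2Defs.lean`): the second half of the automorphism theorem of `²E₆(q)`: notation. The root elements as elements of
`G¹`, the fixed field `k₀`, the field automorphisms of `G¹`.
-/

set_option autoImplicit false
set_option maxRecDepth 100000

namespace Cfsg.Agent.Helper36.TwE6

open Cfsg Cfsg.Lie Cfsg.Agent.Helper18 Cfsg.Agent.Helper18.Aut Cfsg.Agent.Helper19.Twist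
  Cfsg.Agent.Helper19.Poinc Cfsg.Agent.Helper19.Cox Cfsg.Agent.S1081 Cfsg.Agent.Helper6
  Cfsg.Agent.Helper40.SL2Hom Cfsg.Agent.S1080 Cfsg.Agent.Helper18.Sub

section

variable {K : Type*} [Field K] {q : ℕ} (f : K ≃+* K) (hf : ∀ t, f t = t ^ q)

/-- the fixed field of `f` -/
def k0 (f : K ≃+* K) : Subfield K := (f : K →+* K).eqLocusField (RingHom.id K)

theorem mem_k0 (u : K) : u ∈ k0 f ↔ f u = u := Iff.rfl

/-- `x_{a_i}(t)` in `G¹` -/
noncomputable def xaS (i : Fin 2) (t : K) : ↥(twistedE6 K q) := ⟨xa f i t, xa_mem f hf i t⟩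

/-- `x_{-a_i}(t)` in `G¹` -/
noncomputable def yaS (i : Fin 2) (t : K) : ↥(twistedE6 K q) := ⟨ya f i t, ya_mem f hf i t⟩

/-- `x_{b_j}(u)` in `G¹` -/
noncomputable def xbS (j : Fin 2) (u : k0 f) : ↥(twistedE6 K q) := ⟨xGL chevE6 K (sr j) u, xb_mem f hf j u u.2⟩

/-- `x_{-b_j}(u)` in `G¹` -/
noncomputable def ybS (j : Fin 2) (u : k0 f) : ↥(twistedE6 K q) := ⟨xGL chevE6 K (snr j) u, yb_mem f hf j u u.2⟩

@[simp] theorem xaS_coe (i : Fin 2) (t : K) :
    ((xaS f hf i t : ↥(twistedE6 K q)) : GL chevE6.Idx K) = xa f i t := rfl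
@[simp] theorem yaS_coe (i : Fin 2) (t : K) :
    ((yaS f hf i t : ↥(twistedE6 K q)) : GL chevE6.Idx K) = ya f i t := rfl
@[simp] theorem xbS_coe (j : Fin 2) (u : k0 f) :
    ((xbS f hf j u : ↥(twistedE6 K q)) : GL chevE6.Idx K) = xGL chevE6 K (sr j) u := rfl
@[simp] theorem ybS_coe (j : Fin 2) (u : k0 f) :
    ((ybS f hf j u : ↥(twistedE6 K q)) : GL chevE6.Idx K) = xGL chevE6 K (snr j) u := rfl

/-- field automorphisms preserve `²E₆(q)` -/
theorem glEquiv_mem_twistedE6 (τ : K ≃+* K) (g : GL chevE6.Idx K) (hg : g ∈ twistedE6 K q) :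
    glEquiv chevE6 τ g ∈ twistedE6 K q := by
  have htri := triOK_of_mem chevE6 memE6
  have hle : twistedE6 K q ≤ (twistedE6 K q).comap (glEquiv chevE6 τ).toMonoidHom := by
    unfold twistedE6 ChevalleyDatum.genSubgroup
    rw [Subgroup.closure_le]
    rintro g ⟨w, hw, hg⟩
    have e : g = wordGL chevE6 K w := Units.ext (by rw [hg, wordGL_val chevE6 _ htri])
    rw [SetLike.mem_coe, Subgroup.mem_comap]
    show glEquiv chevE6 τ g ∈ _
    rw [e, glEquiv_wordGL chevE6 memE6]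
    apply wordGL_mem_twistedE6
    rcases hw with ⟨t, ht, r, hr, rfl⟩ | ⟨t, rs, hrs, rfl⟩
    · left
      refine ⟨τ t, by rw [← map_pow, ht], r, hr, ?_⟩
      simp
    · right
      refine ⟨τ t, rs, hrs, ?_⟩
      simp [map_pow]
  exact hle hg

/-- the field automorphism of `G¹` induced by `τ` -/
noncomputable def fieldTw (q : ℕ) (τ : K ≃+* K) : ↥(twistedE6 K q) ≃* ↥(twistedE6 K q) where
  toFun g := ⟨glEquiv chevE6 τ g, glEquiv_mem_twistedE6 τ g g.2⟩
  invFun g := ⟨glEquiv chevE6 τ.symm g, glEquiv_mem_twistedE6 τ.symm g g.2⟩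
  left_inv g := by
    apply Subtype.ext
    apply Units.ext
    show (((g : GL chevE6.Idx K) : Matrix chevE6.Idx chevE6.Idx K).map τ).map τ.symm = _
    ext i j
    simp
  right_inv g := by
    apply Subtype.ext
    apply Units.ext
    show (((g : GL chevE6.Idx K) : Matrix chevE6.Idx chevE6.Idx K).map τ.symm).map τ = _
    ext i j
    simp
  map_mul' a b := by
    apply Subtype.ext
    show glEquiv chevE6 τ ((a : GL chevE6.Idx K) * (b : GL chevE6.Idx K)) = _
    rw [map_mul]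
    rfl

theorem fieldTw_coe (τ : K ≃+* K) (g : ↥(twistedE6 K q)) :
    ((fieldTw q τ g : ↥(twistedE6 K q)) : GL chevE6.Idx K) = glEquiv chevE6 τ g := rfl

/-- the field automorphisms as a homomorphism -/
noncomputable def fieldTwHom (K : Type*) [Field K] (q : ℕ) : (K ≃+* K) →* MulAut ↥(twistedE6 K q) where
  toFun τ := fieldTw q τ
  map_one' := by
    ext g i j
    show (((g : GL chevE6.Idx K) : Matrix chevE6.Idx chevE6.Idx K).map (1 : K ≃+* K)) i j = _
    simp
  map_mul' τ₁ τ₂ := by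
    ext g i j
    show (((g : GL chevE6.Idx K) : Matrix chevE6.Idx chevE6.Idx K).map (τ₁ * τ₂)) i j =
      ((((g : GL chevE6.Idx K) : Matrix chevE6.Idx chevE6.Idx K).map τ₂).map τ₁) i j
    simp

theorem fieldTwHom_apply (τ : K ≃+* K) : fieldTwHom K q τ = fieldTw q τ := rfl

end

end Cfsg.Agent.Helper36.TwE6
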