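import Cfsg.Agent.Helper36.TwE6.Sub

/-!
Helper36 / twisted E6 automorphisms (S2130), PIECE RE (rank one relations for the twisted roots `a₀`, `a₁`).
Model: `Cfsg/Agent/Helper18/Tw/P_Rel.lean` (the same statements for `³D₄`, with three factors instead of two).
(Proofs: helper5.)
-/

set_option autoImplicit false
set_option maxRecDepth 100000

namespace Cfsg.Agent.Helper36.TwE6

open Cfsg Cfsg.Lie Cfsg.Agent.Helper18 Cfsg.Agent.Helper18.Aut Cfsg.Agent.Helper19.Twist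
  Cfsg.Agent.Helper19.Poinc Cfsg.Agent.Helper19.Cox Cfsg.Agent.S1081 Cfsg.Agent.Helper6
  Cfsg.Agent.Helper40.SL2Hom

private theorem RE_mul2_comm {G : Type*} [Group G] (a1 a2 b1 b2 : G) (h21 : Commute a2 b1) :
    (a1 * a2) * (b1 * b2) = (a1 * b1) * (a2 * b2) := by
  calc (a1 * a2) * (b1 * b2) = a1 * (a2 * b1) * b2 := by group
    _ = (a1 * b1) * (a2 * b2) := by rw [h21.eq]; group

/-- the `w` of the two systems commute -/
theorem RE_w_commute {F Γ : Type*} [Field F] [Group Γ] (x₁ y₁ x₂ y₂ : F → Γ)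
    (hxx : ∀ s t, Commute (x₁ s) (x₂ t)) (hxy : ∀ s t, Commute (x₁ s) (y₂ t))
    (hyx : ∀ s t, Commute (y₁ s) (x₂ t)) (hyy : ∀ s t, Commute (y₁ s) (y₂ t)) (s t : F) :
    Commute (w x₁ y₁ s) (w x₂ y₂ t) := by
  have hxw2 : ∀ s t, Commute (x₁ s) (w x₂ y₂ t) := fun s t =>
    ((hxx s t).mul_right (hxy s _)).mul_right (hxx s t)
  have hyw2 : ∀ s t, Commute (y₁ s) (w x₂ y₂ t) := fun s t =>
    ((hyx s t).mul_right (hyy s _)).mul_right (hyx s t)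
  exact ((hxw2 s t).mul_left (hyw2 _ t)).mul_left (hxw2 s t)

/-- the `w` of the product of two commuting systems -/
theorem RE_w_prod {F Γ : Type*} [Field F] [Group Γ] (x₁ y₁ x₂ y₂ : F → Γ) (g : F →+* F)
    (hxx : ∀ s t, Commute (x₁ s) (x₂ t)) (hxy : ∀ s t, Commute (x₁ s) (y₂ t))
    (hyx : ∀ s t, Commute (y₁ s) (x₂ t)) (t : F) :
    w (fun t => x₁ t * x₂ (g t)) (fun t => y₁ t * y₂ (g t)) t = w x₁ y₁ t * w x₂ y₂ (g t) := by
  show (x₁ t * x₂ (g t)) * (y₁ (-t⁻¹) * y₂ (g (-t⁻¹))) * (x₁ t * x₂ (g t)) =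
    (x₁ t * y₁ (-t⁻¹) * x₁ t) * (x₂ (g t) * y₂ (-(g t)⁻¹) * x₂ (g t))
  rw [map_neg, map_inv₀]
  rw [RE_mul2_comm (x₁ t) (x₂ (g t)) (y₁ (-t⁻¹)) (y₂ (-(g t)⁻¹)) (hyx _ _).symm]
  rw [RE_mul2_comm (x₁ t * y₁ (-t⁻¹)) (x₂ (g t) * y₂ (-(g t)⁻¹)) (x₁ t) (x₂ (g t))
    ((hxx _ _).symm.mul_left (hxy _ _).symm)]

/-- the `h` of the product of two commuting systems -/
theorem RE_h_prod {F Γ : Type*} [Field F] [Group Γ] (x₁ y₁ x₂ y₂ : F → Γ) (g : F →+* F)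
    (hxx : ∀ s t, Commute (x₁ s) (x₂ t)) (hxy : ∀ s t, Commute (x₁ s) (y₂ t))
    (hyx : ∀ s t, Commute (y₁ s) (x₂ t)) (hyy : ∀ s t, Commute (y₁ s) (y₂ t)) (t : F) :
    h (fun t => x₁ t * x₂ (g t)) (fun t => y₁ t * y₂ (g t)) t = h x₁ y₁ t * h x₂ y₂ (g t) := by
  have hw1w2 := RE_w_commute x₁ y₁ x₂ y₂ hxx hxy hyx hyy
  unfold h
  rw [RE_w_prod x₁ y₁ x₂ y₂ g hxx hxy hyx, RE_w_prod x₁ y₁ x₂ y₂ g hxx hxy hyx, map_one,
    _root_.mul_inv_rev, ← (hw1w2 1 1).inv_inv.eq]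
  exact RE_mul2_comm _ _ _ _ (hw1w2 1 (g t)).symm.inv_right

/-- PIECE RE0 (abstract): the product of two elementwise commuting rank one systems, the second twisted by a ring
homomorphism, is a rank one system. (`w`, `h` of the product are the products of the `w`'s, `h`'s.)
[Identical to `Cfsg.Agent.Helper18.Tw.rel_prod`; copy its proof once it is on main.] -/
theorem rel_prod {F Γ : Type*} [Field F] [Group Γ] (x₁ y₁ x₂ y₂ : F → Γ) (g : F →+* F)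
    (R₁ : Rel x₁ y₁) (R₂ : Rel x₂ y₂)
    (hxx : ∀ s t, Commute (x₁ s) (x₂ t)) (hxy : ∀ s t, Commute (x₁ s) (y₂ t))
    (hyx : ∀ s t, Commute (y₁ s) (x₂ t)) (hyy : ∀ s t, Commute (y₁ s) (y₂ t)) :
    Rel (fun t => x₁ t * x₂ (g t)) (fun t => y₁ t * y₂ (g t)) := by
  have hw1x : ∀ s t, Commute (w x₁ y₁ s) (x₂ t) := fun s t =>
    ((hxx s t).mul_left (hyx _ t)).mul_left (hxx s t)
  have hxw2 : ∀ s t, Commute (x₁ s) (w x₂ y₂ t) := fun s t =>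
    ((hxx s t).mul_right (hxy s _)).mul_right (hxx s t)
  have hw1w2 := RE_w_commute x₁ y₁ x₂ y₂ hxx hxy hyx hyy
  have hw := RE_w_prod x₁ y₁ x₂ y₂ g hxx hxy hyx
  have hh := RE_h_prod x₁ y₁ x₂ y₂ g hxx hxy hyx hyy
  refine ⟨?_, ?_, ?_, ?_⟩
  · intro s t
    show x₁ (s + t) * x₂ (g (s + t)) = (x₁ s * x₂ (g s)) * (x₁ t * x₂ (g t))
    rw [map_add, R₁.x_add, R₂.x_add]
    exact RE_mul2_comm _ _ _ _ (hxx _ _)
  · intro s t
    show y₁ (s + t) * y₂ (g (s + t)) = (y₁ s * y₂ (g s)) * (y₁ t * y₂ (g t))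
    rw [map_add, R₁.y_add, R₂.y_add]
    exact RE_mul2_comm _ _ _ _ (hyy _ _)
  · intro t u ht
    have hgt : g t ≠ 0 := (map_ne_zero g).2 ht
    rw [hw]
    show w x₁ y₁ t * w x₂ y₂ (g t) * (x₁ u * x₂ (g u)) * (w x₁ y₁ t * w x₂ y₂ (g t))⁻¹ =
      y₁ (-(t⁻¹ * t⁻¹ * u)) * y₂ (g (-(t⁻¹ * t⁻¹ * u)))
    rw [map_neg, map_mul, map_mul, map_inv₀, ← R₁.conj t u ht, ← R₂.conj (g t) (g u) hgt]
    rw [RE_mul2_comm _ _ _ _ (hxw2 u (g t)).symm, _root_.mul_inv_rev,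
      ← (hw1w2 t (g t)).inv_inv.eq]
    rw [RE_mul2_comm _ _ _ _ ((hw1w2 t (g t)).symm.mul_left (hw1x t (g u)).symm).inv_right]
  · intro s t hs ht
    rw [hh, hh, hh, map_mul, R₁.h_mul s t hs ht,
      R₂.h_mul (g s) (g t) ((map_ne_zero g).2 hs) ((map_ne_zero g).2 ht)]
    refine RE_mul2_comm _ _ _ _ ?_
    unfold h
    exact ((hw1w2 _ _).mul_right (hw1w2 _ _).inv_right).mul_left
      ((hw1w2 _ _).inv_left.mul_right (hw1w2 _ _).inv_inv)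

section

variable {K : Type*} [Field K]

theorem RE_relx (i : Fin 2) : Rel (xGL chevE6 K (pr i)) (xGL chevE6 K (nr i)) := by
  have := relE (K := K) (pr i) (pr_lt i)
  rwa [neg_pr] at this

theorem RE_relx' (i : Fin 2) : Rel (xGL chevE6 K (pr' i)) (xGL chevE6 K (nr' i)) := by
  have := relE (K := K) (pr' i) (pr'_lt i)
  rwa [neg_pr'] at this

theorem RE_hxx (i : Fin 2) (s t : K) : Commute (xGL chevE6 K (pr i) s) (xGL chevE6 K (pr' i) t) :=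
  x_commute_x chevE6 memE6 _ _ (orth_pr i) s t

theorem RE_hxy (i : Fin 2) (s t : K) : Commute (xGL chevE6 K (pr i) s) (xGL chevE6 K (nr' i) t) := by
  have := x_commute_xn (K := K) chevE6 memE6 _ _ (orth_pr i) s t
  rwa [neg_pr'] at this

theorem RE_hyx (i : Fin 2) (s t : K) : Commute (xGL chevE6 K (nr i) s) (xGL chevE6 K (pr' i) t) := by
  have := xn_commute_x (K := K) chevE6 memE6 _ _ (orth_pr i) s t
  rwa [neg_pr] at this

theorem RE_hyy (i : Fin 2) (s t : K) : Commute (xGL chevE6 K (nr i) s) (xGL chevE6 K (nr' i) t) := by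
  have := xn_commute_xn (K := K) chevE6 memE6 _ _ (orth_pr i) s t
  rwa [neg_pr, neg_pr'] at this

/-- `w` of the ambient rank one system is `n_r` -/
theorem RE_w_eq_nG (r : ℕ) (t : K) :
    w (xGL chevE6 K r) (xGL chevE6 K (chevE6.neg r)) t = nG chevE6 K r t := by
  rw [nG_eq]; rfl

/-- `h` of the ambient rank one system is `h_r` -/
theorem RE_h_eq_hG (r : ℕ) (hr : r < chevE6.nroots) (t : K) :
    h (xGL chevE6 K r) (xGL chevE6 K (chevE6.neg r)) t = hG chevE6 K r t := by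
  have R := relE (K := K) r hr
  unfold h
  rw [← R.w_neg, hG_eq, RE_w_eq_nG, RE_w_eq_nG]

end

/-- PIECE RE1: the rank one relations for `x_{a_i}`, `x_{-a_i}` (apply RE0 to `relE (pr i)`, `relE (pr' i)`;
commutation from `x_commute_x`, `x_commute_xn`, `xn_commute_x`, `xn_commute_xn` with `orth_pr i`; `neg_pr`, `neg_pr'`) -/
theorem rel_a {K : Type*} [Field K] (f : K ≃+* K) (i : Fin 2) : Rel (xa f i) (ya f i) :=
  rel_prod (xGL chevE6 K (pr i)) (xGL chevE6 K (nr i)) (xGL chevE6 K (pr' i)) (xGL chevE6 K (nr' i))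
    (f : K →+* K) (RE_relx i) (RE_relx' i) (RE_hxx i) (RE_hxy i) (RE_hyx i) (RE_hyy i)

/-- `w_{a_i}(t) = n_r(t) n_{r̄}(f t)` -/
theorem RE_w_a {K : Type*} [Field K] (f : K ≃+* K) (i : Fin 2) (t : K) :
    w (xa f i) (ya f i) t = nG chevE6 K (pr i) t * nG chevE6 K (pr' i) (f t) := by
  have := RE_w_prod (xGL chevE6 K (pr i)) (xGL chevE6 K (nr i)) (xGL chevE6 K (pr' i))
    (xGL chevE6 K (nr' i)) (f : K →+* K) (RE_hxx i) (RE_hxy i) (RE_hyx i) t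
  rw [← RE_w_eq_nG, ← RE_w_eq_nG, neg_pr, neg_pr']
  exact this

/-- PIECE RE2: `s_{a_i} = x_{a_i}(1) x_{-a_i}(-1) x_{a_i}(1)` (`nN_val`, `nG_eq`, `nprod2`; compare `repGenE6_mem`) -/
theorem sTw_a_eq {K : Type*} [Field K] [Fintype K] {q : ℕ} (f : K ≃+* K) (hf : ∀ t, f t = t ^ q) (i : Fin 2) :
    ((sTw f hf (Fin.castLE (by decide) i) : ↥(twistedE6 K q)) : GL chevE6.Idx K) = w (xa f i) (ya f i) 1 := by
  rw [RE_w_a, map_one]
  fin_cases i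
  · show ((repGenE6 K 0 : ↥(chevE6.monomialSubgroup K)) : GL chevE6.Idx K) = _
    have : repGenE6 K 0 = nN chevE6 K 56 * nN chevE6 K 36 := by simp [repGenE6]
    rw [this, Subgroup.coe_mul, nN_val chevE6 memE6 56 (by decide), nN_val chevE6 memE6 36 (by decide)]
    rfl
  · show ((repGenE6 K 1 : ↥(chevE6.monomialSubgroup K)) : GL chevE6.Idx K) = _
    have : repGenE6 K 1 = nN chevE6 K 42 * nN chevE6 K 37 := by simp [repGenE6]
    rw [this, Subgroup.coe_mul, nN_val chevE6 memE6 42 (by decide), nN_val chevE6 memE6 37 (by decide)]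
    rfl

/-- PIECE RE3: `s_{b_j} = x_{b_j}(1) x_{-b_j}(-1) x_{b_j}(1)` (`j = 0`: node `2 = p₄`; `j = 1`: node `3 = p₂`) -/
theorem sTw_b_eq {K : Type*} [Field K] [Fintype K] {q : ℕ} (f : K ≃+* K) (hf : ∀ t, f t = t ^ q) (j : Fin 2) :
    ((sTw f hf (Fin.natAdd 2 j) : ↥(twistedE6 K q)) : GL chevE6.Idx K) =
      w (xGL chevE6 K (sr j)) (xGL chevE6 K (snr j)) 1 := by
  rw [← neg_sr, RE_w_eq_nG]
  fin_cases j
  · show ((repGenE6 K 2 : ↥(chevE6.monomialSubgroup K)) : GL chevE6.Idx K) = _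
    have : repGenE6 K 2 = nN chevE6 K 39 := by simp [repGenE6]
    rw [this, nN_val chevE6 memE6 39 (by decide)]
    rfl
  · show ((repGenE6 K 3 : ↥(chevE6.monomialSubgroup K)) : GL chevE6.Idx K) = _
    have : repGenE6 K 3 = nN chevE6 K 46 := by simp [repGenE6]
    rw [this, nN_val chevE6 memE6 46 (by decide)]
    rfl

/-- PIECE RE4: `h_{a_i}(t) = h_r(t) h_{r̄}(f t)` (`hprod2`, `nprod2`) -/
theorem h_a_eq {K : Type*} [Field K] (f : K ≃+* K) (i : Fin 2) (t : K) (ht : t ≠ 0) :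
    h (xa f i) (ya f i) t = hG chevE6 K (pr i) t * hG chevE6 K (pr' i) (f t) := by
  have := RE_h_prod (xGL chevE6 K (pr i)) (xGL chevE6 K (nr i)) (xGL chevE6 K (pr' i))
    (xGL chevE6 K (nr' i)) (f : K →+* K) (RE_hxx i) (RE_hxy i) (RE_hyx i) (RE_hyy i) t
  rw [← RE_h_eq_hG _ (pr_lt i), ← RE_h_eq_hG _ (pr'_lt i), neg_pr, neg_pr']
  exact this

/-- PIECE RE5: `h_{b_j}(t) = h_{p}(t)` -/
theorem h_b_eq {K : Type*} [Field K] (j : Fin 2) (t : K) (ht : t ≠ 0) :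
    h (xGL chevE6 K (sr j)) (xGL chevE6 K (snr j)) t = hG chevE6 K (sr j) t := by
  rw [← neg_sr]
  exact RE_h_eq_hG _ (sr_lt j) t

end Cfsg.Agent.Helper36.TwE6
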