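import Cfsg.Agent.Helper36.TwE6.Sub
import Cfsg.Agent.S1066
import Cfsg.Agent.S1086

/-!
Helper36 / twisted E6 automorphisms (S2130), PIECE SY (Sylow).
Model: `Cfsg/Agent/Helper18/Tw/P_Sylow.lean` (the same statement for `³D₄`).
-/

set_option autoImplicit false
set_option maxRecDepth 100000

namespace Cfsg.Agent.Helper36.TwE6

open Cfsg Cfsg.Lie Cfsg.Agent.Helper18 Cfsg.Agent.Helper18.Aut Cfsg.Agent.Helper19.Twist
  Cfsg.Agent.Helper19.Poinc Cfsg.Agent.Helper19.Cox Cfsg.Agent.S1081 Cfsg.Agent.Helper6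
  Cfsg.Agent.Helper40.SL2Hom

/-- If `p ∣ q` then `p ∤ q ^ n - 1` (natural subtraction), `n` arbitrary. -/
theorem sylE6_not_dvd_pow_sub_one {p q : ℕ} (hp : p.Prime) (hpq : p ∣ q) (hq0 : 0 < q) (n : ℕ)
    (hn : 0 < n) : ¬ p ∣ q ^ n - 1 := by
  intro h
  have h1 : 1 ≤ q ^ n := Nat.one_le_pow _ _ hq0
  have h2 : p ∣ q ^ n := dvd_trans hpq (dvd_pow_self q hn.ne')
  have h3 : p ∣ q ^ n - (q ^ n - 1) := Nat.dvd_sub h2 h
  have h4 : q ^ n - (q ^ n - 1) = 1 := by omega
  rw [h4] at h3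
  exact hp.one_lt.ne' (Nat.dvd_one.mp h3)

/-- If `p ∣ q` then `p ∤ q ^ n + 1`. -/
theorem sylE6_not_dvd_pow_add_one {p q : ℕ} (hp : p.Prime) (hpq : p ∣ q) (n : ℕ)
    (hn : 0 < n) : ¬ p ∣ q ^ n + 1 := by
  intro h
  have h2 : p ∣ q ^ n := dvd_trans hpq (dvd_pow_self q hn.ne')
  have h3 : p ∣ 1 := (Nat.dvd_add_right h2).mp h
  exact hp.one_lt.ne' (Nat.dvd_one.mp h3)

/-- A finite field of characteristic `p` with `q ^ 2` elements, `q` a prime power: `q` is a power
of `p`. -/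
theorem sylE6_q_eq_pow {K : Type*} [Field K] [Fintype K] {q : ℕ} (p : ℕ) [Fact p.Prime] [CharP K p]
    (hq : IsPrimePow q) (e : ℕ) (hK : Fintype.card K = q ^ e) :
    ∃ k : ℕ, 0 < k ∧ q = p ^ k := by
  obtain ⟨r, k, hr, hk, rfl⟩ := hq
  have hr' : r.Prime := hr.nat_prime
  have h0 : ((Fintype.card K : ℕ) : K) = 0 := Nat.cast_card_eq_zero K
  have hdvd : p ∣ Fintype.card K := (CharP.cast_eq_zero_iff K p _).mp h0
  rw [hK] at hdvd
  have h1 : p ∣ r := by
    have := (Fact.out : p.Prime).dvd_of_dvd_pow hdvd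
    exact (Fact.out : p.Prime).dvd_of_dvd_pow this
  have h2 : p = r := (Nat.prime_dvd_prime_iff_eq Fact.out hr').mp h1
  exact ⟨k, hk, by rw [h2]⟩

/-- A subgroup whose order is the full `p`-part is a Sylow subgroup: arithmetic form. -/
theorem sylE6_exists_sylow_of_card {G : Type*} [Group G] [Finite G] (p : ℕ) [Fact p.Prime]
    (H : Subgroup G) (c m N : ℕ) (hH : Nat.card H = p ^ N) (hG : c * Nat.card G = p ^ N * m)
    (hm : ¬ p ∣ m) :
    ∃ Q : Sylow p G, (Q : Subgroup G) = H := by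
  have hp : p.Prime := Fact.out
  have hcard : Nat.card G = p ^ N * H.index := by
    rw [← hH, mul_comm]; exact (H.index_mul_card).symm
  have hidx : ¬ p ∣ H.index := by
    intro h
    apply hm
    have h1 : c * (p ^ N * H.index) = p ^ N * m := by rw [← hcard]; exact hG
    have h2 : p ^ N * (c * H.index) = p ^ N * m := by rw [← h1]; ring
    have h3 : c * H.index = m := Nat.eq_of_mul_eq_mul_left (pow_pos hp.pos N) h2
    rw [← h3]; exact dvd_mul_of_dvd_right h c
  have hfac : (Nat.card G).factorization p = N := by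
    rw [hcard, Nat.factorization_mul (pow_ne_zero _ hp.ne_zero) (fun h0 => hidx (by rw [h0]; exact dvd_zero p))]
    simp [hp.factorization_pow, Nat.factorization_eq_zero_of_not_dvd hidx]
  refine ⟨Sylow.ofCard H (by rw [hfac, hH]), ?_⟩
  exact Sylow.coe_ofCard H _

/-- PIECE SY: `U¹` is a Sylow `p`-subgroup of `G¹ = ²E₆(q)`.
Hint: `|G¹|` is S1066, `|U¹| = q^36` is S1086; `q` is a power of `p` (from `hq`, `hK`, `CharP K p`);
`Sylow.ofCard`, or a `Sylow` from `IsPGroup` + index coprime to `p`. -/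
theorem sylow_E6 {K : Type*} [Field K] [Fintype K] {q : ℕ} (p : ℕ) [Fact p.Prime] [CharP K p]
    (hq : IsPrimePow q) (hK : Fintype.card K = q ^ 2) :
    ∃ Q : Sylow p ↥(twistedE6 K q), (Q : Subgroup ↥(twistedE6 K q)) = U1 K q := by
  have hp : p.Prime := Fact.out
  obtain ⟨k, hk, hqk⟩ := sylE6_q_eq_pow (K := K) p hq 2 hK
  have hpq : p ∣ q := by rw [hqk]; exact dvd_pow_self p hk.ne'
  have hq0 : 0 < q := hq.pos
  have hcardG := Cfsg.Agent.S1066.result hq hK
  have hcardU := Cfsg.Agent.S1086.result hq hK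
  have hU1 : Nat.card ↥(U1 K q) = p ^ (k * 36) := by
    have h1 : Nat.card ↥(U1 K q) = Nat.card ↥(chevE6.posUnipotent K ⊓ twistedE6 K q) := by
      unfold U1
      rw [← Subgroup.inf_subgroupOf_right (chevE6.posUnipotent K) (twistedE6 K q)]
      exact Nat.card_congr (Subgroup.subgroupOfEquivOfLe
        (inf_le_right : chevE6.posUnipotent K ⊓ twistedE6 K q ≤ twistedE6 K q)).toEquiv
    rw [h1, hcardU, hqk, ← pow_mul]
  refine sylE6_exists_sylow_of_card p (U1 K q) (Nat.gcd 3 (q + 1))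
    ((q ^ 2 - 1) * (q ^ 5 + 1) * (q ^ 6 - 1) * (q ^ 8 - 1) * (q ^ 9 + 1) * (q ^ 12 - 1)) (k * 36)
    hU1 ?_ ?_
  · rw [hcardG, pow_mul, ← hqk]; ring
  · intro h
    rcases (hp.dvd_mul).mp h with h | h
    · rcases (hp.dvd_mul).mp h with h | h
      · rcases (hp.dvd_mul).mp h with h | h
        · rcases (hp.dvd_mul).mp h with h | h
          · rcases (hp.dvd_mul).mp h with h | h
            · exact sylE6_not_dvd_pow_sub_one hp hpq hq0 2 (by norm_num) h
            · exact sylE6_not_dvd_pow_add_one hp hpq 5 (by norm_num) h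
          · exact sylE6_not_dvd_pow_sub_one hp hpq hq0 6 (by norm_num) h
        · exact sylE6_not_dvd_pow_sub_one hp hpq hq0 8 (by norm_num) h
      · exact sylE6_not_dvd_pow_add_one hp hpq 9 (by norm_num) h
    · exact sylE6_not_dvd_pow_sub_one hp hpq hq0 12 (by norm_num) h

end Cfsg.Agent.Helper36.TwE6
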