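import Cfsg.Agent.Helper36.TwE6.Defs
import Cfsg.Agent.Helper18.Aut.ChevInst

/-!
Helper36: the subgroups of `²E₆(q)` entering the automorphism theorem: `U¹`, `V¹`, the fundamental root subgroups
`X_{±a_i}`, `X_{±b_j}`, the representative `n₀` of the longest element; the additivity of the twisted root elements.
(Clone of helper18's `Tw/D4Sub.lean`.)
-/

set_option autoImplicit false
set_option maxRecDepth 100000

namespace Cfsg.Agent.Helper36.TwE6

open Cfsg Cfsg.Lie Cfsg.Agent.Helper18 Cfsg.Agent.Helper18.Aut Cfsg.Agent.Helper19.Twist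
  Cfsg.Agent.Helper19.Poinc Cfsg.Agent.Helper19.Cox Cfsg.Agent.S1081 Cfsg.Agent.Helper6
  Cfsg.Agent.Helper40.SL2Hom

theorem neg_pr (i : Fin 2) : chevE6.neg (pr i) = nr i := by fin_cases i <;> rfl
theorem neg_pr' (i : Fin 2) : chevE6.neg (pr' i) = nr' i := by fin_cases i <;> rfl
theorem neg_sr (j : Fin 2) : chevE6.neg (sr j) = snr j := by fin_cases j <;> rfl
theorem pr_lt (i : Fin 2) : pr i < chevE6.nroots := by fin_cases i <;> decide
theorem pr'_lt (i : Fin 2) : pr' i < chevE6.nroots := by fin_cases i <;> decide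
theorem nr_lt (i : Fin 2) : nr i < chevE6.nroots := by fin_cases i <;> decide
theorem nr'_lt (i : Fin 2) : nr' i < chevE6.nroots := by fin_cases i <;> decide
theorem sr_lt (j : Fin 2) : sr j < chevE6.nroots := by fin_cases j <;> decide
theorem snr_lt (j : Fin 2) : snr j < chevE6.nroots := by fin_cases j <;> decide

theorem orth_pr (i : Fin 2) : orthOK chevE6 (pr i) (pr' i) = true := by
  fin_cases i
  · exact orth_56_36
  · exact orth_42_37

section

variable {K : Type*} [Field K] (f : K ≃+* K)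

/-- `U¹ = U ∩ G¹` as a subgroup of `G¹` -/
noncomputable def U1 (K : Type*) [Field K] (q : ℕ) : Subgroup ↥(twistedE6 K q) :=
  (chevE6.posUnipotent K).subgroupOf (twistedE6 K q)

/-- `V¹ = V ∩ G¹` as a subgroup of `G¹` -/
noncomputable def V1 (K : Type*) [Field K] (q : ℕ) : Subgroup ↥(twistedE6 K q) :=
  (chevE6.negUnipotent K).subgroupOf (twistedE6 K q)

/-- the ambient root subgroup `X_{a_i} = {x_{a_i}(t)}` -/
noncomputable def XA (i : Fin 2) : Subgroup (GL chevE6.Idx K) := Subgroup.closure (Set.range (xa f i))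

/-- the ambient root subgroup `X_{-a_i} = {x_{-a_i}(t)}` -/
noncomputable def YA (i : Fin 2) : Subgroup (GL chevE6.Idx K) := Subgroup.closure (Set.range (ya f i))

/-- the ambient root subgroup `X_{b_j} = {x_{b_j}(u) : f u = u}` -/
noncomputable def XB (j : Fin 2) : Subgroup (GL chevE6.Idx K) :=
  Subgroup.closure {g | ∃ u : K, f u = u ∧ g = xGL chevE6 K (sr j) u}

/-- the ambient root subgroup `X_{-b_j} = {x_{-b_j}(u) : f u = u}` -/
noncomputable def YB (j : Fin 2) : Subgroup (GL chevE6.Idx K) :=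
  Subgroup.closure {g | ∃ u : K, f u = u ∧ g = xGL chevE6 K (snr j) u}

/-- the ambient positive fundamental root subgroups, indexed by the nodes of the twisted diagram
`0 = {p₁,p₆} — 1 = {p₃,p₅} ⇒ 2 = p₄ — 3 = p₂` -/
noncomputable def XpAmb (a : Fin 4) : Subgroup (GL chevE6.Idx K) :=
  ![XA f 0, XA f 1, XB f 0, XB f 1] a

/-- the ambient negative fundamental root subgroups -/
noncomputable def XmAmb (a : Fin 4) : Subgroup (GL chevE6.Idx K) :=
  ![YA f 0, YA f 1, YB f 0, YB f 1] a

/-- the positive fundamental root subgroups of `G¹` -/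
noncomputable def XpTw (q : ℕ) (a : Fin 4) : Subgroup ↥(twistedE6 K q) :=
  (XpAmb f a).subgroupOf (twistedE6 K q)

/-- the negative fundamental root subgroups of `G¹` -/
noncomputable def XmTw (q : ℕ) (a : Fin 4) : Subgroup ↥(twistedE6 K q) :=
  (XmAmb f a).subgroupOf (twistedE6 K q)

/-- the rank one relations for the root elements of the ambient group -/
theorem relE (r : ℕ) (hr : r < chevE6.nroots) : Rel (xGL chevE6 K r) (xGL chevE6 K (chevE6.neg r)) := by
  have hadd := Cfsg.Agent.Helper40.ChevAdd.addOK_of_mem memE6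
  have e : ∀ s : ℕ, xGL chevE6 K s = Cfsg.Agent.Helper40.ChevAdd.xGL chevE6 hadd K s := by
    intro s
    funext t
    apply Units.ext
    exact xGL_val chevE6 _ (triOK_of_mem chevE6 memE6) s t
  rw [e, e]
  exact Cfsg.Agent.Helper40.SL2Chev.rel chevE6 hadd memE6 r hr

theorem x_addE (r : ℕ) (hr : r < chevE6.nroots) (s t : K) :
    xGL chevE6 K r (s + t) = xGL chevE6 K r s * xGL chevE6 K r t := by
  exact (relE (K := K) r hr).x_add s t

theorem xa_add (i : Fin 2) (s t : K) : xa f i (s + t) = xa f i s * xa f i t := by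
  unfold xa
  simp only [map_add]
  rw [x_addE _ (pr_lt i), x_addE _ (pr'_lt i)]
  exact (mul2_comm _ _ _ _ (x_commute_x chevE6 memE6 _ _ (orth_pr i) _ _).symm).symm

theorem ya_add (i : Fin 2) (s t : K) : ya f i (s + t) = ya f i s * ya f i t := by
  unfold ya
  simp only [map_add]
  rw [x_addE _ (nr_lt i), x_addE _ (nr'_lt i)]
  have h := (xn_commute_xn (K := K) chevE6 memE6 _ _ (orth_pr i) s (f t)).symm
  rw [neg_pr, neg_pr'] at h
  have h' := (xn_commute_xn (K := K) chevE6 memE6 _ _ (orth_pr i) t (f s))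
  rw [neg_pr, neg_pr'] at h'
  exact (mul2_comm _ _ _ _ h'.symm).symm

theorem xa_zero (i : Fin 2) : xa f i 0 = 1 := by
  have := xa_add f i 0 0
  rw [add_zero] at this
  exact left_eq_mul.mp this

theorem ya_zero (i : Fin 2) : ya f i 0 = 1 := by
  have := ya_add f i 0 0
  rw [add_zero] at this
  exact left_eq_mul.mp this

theorem xa_neg (i : Fin 2) (t : K) : xa f i (-t) = (xa f i t)⁻¹ := by
  apply eq_inv_of_mul_eq_one_left
  rw [← xa_add, neg_add_cancel, xa_zero]

theorem ya_neg (i : Fin 2) (t : K) : ya f i (-t) = (ya f i t)⁻¹ := by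
  apply eq_inv_of_mul_eq_one_left
  rw [← ya_add, neg_add_cancel, ya_zero]

/-- the elements of `X_{a_i}` -/
theorem mem_XA (i : Fin 2) (g : GL chevE6.Idx K) : g ∈ XA f i ↔ ∃ t, g = xa f i t := by
  constructor
  · intro hg
    unfold XA at hg
    induction hg using Subgroup.closure_induction with
    | mem x hx => obtain ⟨t, rfl⟩ := hx; exact ⟨t, rfl⟩
    | one => exact ⟨0, (xa_zero f i).symm⟩
    | mul a b _ _ ha hb =>
      obtain ⟨s, rfl⟩ := ha
      obtain ⟨t, rfl⟩ := hb
      exact ⟨s + t, (xa_add f i s t).symm⟩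
    | inv a _ ha =>
      obtain ⟨s, rfl⟩ := ha
      exact ⟨-s, (xa_neg f i s).symm⟩
  · rintro ⟨t, rfl⟩
    exact Subgroup.subset_closure ⟨t, rfl⟩

/-- the elements of `X_{-a_i}` -/
theorem mem_YA (i : Fin 2) (g : GL chevE6.Idx K) : g ∈ YA f i ↔ ∃ t, g = ya f i t := by
  constructor
  · intro hg
    unfold YA at hg
    induction hg using Subgroup.closure_induction with
    | mem x hx => obtain ⟨t, rfl⟩ := hx; exact ⟨t, rfl⟩
    | one => exact ⟨0, (ya_zero f i).symm⟩
    | mul a b _ _ ha hb =>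
      obtain ⟨s, rfl⟩ := ha
      obtain ⟨t, rfl⟩ := hb
      exact ⟨s + t, (ya_add f i s t).symm⟩
    | inv a _ ha =>
      obtain ⟨s, rfl⟩ := ha
      exact ⟨-s, (ya_neg f i s).symm⟩
  · rintro ⟨t, rfl⟩
    exact Subgroup.subset_closure ⟨t, rfl⟩

/-- the elements of `X_{b_j}` -/
theorem mem_XB (j : Fin 2) (g : GL chevE6.Idx K) : g ∈ XB f j ↔ ∃ u, f u = u ∧ g = xGL chevE6 K (sr j) u := by
  have R := relE (K := K) (sr j) (sr_lt j)
  constructor
  · intro hg
    unfold XB at hg
    induction hg using Subgroup.closure_induction with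
    | mem x hx => exact hx
    | one => exact ⟨0, map_zero f, R.x_zero.symm⟩
    | mul a b _ _ ha hb =>
      obtain ⟨s, hs, rfl⟩ := ha
      obtain ⟨t, ht, rfl⟩ := hb
      exact ⟨s + t, by rw [map_add, hs, ht], (R.x_add s t).symm⟩
    | inv a _ ha =>
      obtain ⟨s, hs, rfl⟩ := ha
      exact ⟨-s, by rw [map_neg, hs], (R.x_neg s).symm⟩
  · intro hg
    exact Subgroup.subset_closure hg

/-- the elements of `X_{-b_j}` -/
theorem mem_YB (j : Fin 2) (g : GL chevE6.Idx K) : g ∈ YB f j ↔ ∃ u, f u = u ∧ g = xGL chevE6 K (snr j) u := by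
  have R := relE (K := K) (sr j) (sr_lt j)
  rw [neg_sr] at R
  constructor
  · intro hg
    unfold YB at hg
    induction hg using Subgroup.closure_induction with
    | mem x hx => exact hx
    | one => exact ⟨0, map_zero f, R.y_zero.symm⟩
    | mul a b _ _ ha hb =>
      obtain ⟨s, hs, rfl⟩ := ha
      obtain ⟨t, ht, rfl⟩ := hb
      exact ⟨s + t, by rw [map_add, hs, ht], (R.y_add s t).symm⟩
    | inv a _ ha =>
      obtain ⟨s, hs, rfl⟩ := ha
      exact ⟨-s, by rw [map_neg, hs], (R.y_neg s).symm⟩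
  · intro hg
    exact Subgroup.subset_closure hg

end

section

variable {K : Type*} [Field K] [Fintype K] {q : ℕ} (f : K ≃+* K) (hf : ∀ t, f t = t ^ q)

/-- the representative `(s₀ s₁ s₂ s₃)⁶` of the longest element (the Coxeter number of `F₄` is `12`) -/
noncomputable def n0Tw : ↥(twistedE6 K q) := (sTw f hf 0 * sTw f hf 1 * sTw f hf 2 * sTw f hf 3) ^ 6

omit [Fintype K] in
include hf in
theorem XA_le (i : Fin 2) : XA f i ≤ twistedE6 K q := by
  intro g hg
  obtain ⟨t, rfl⟩ := (mem_XA f i g).mp hg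
  exact xa_mem f hf i t

omit [Fintype K] in
include hf in
theorem YA_le (i : Fin 2) : YA f i ≤ twistedE6 K q := by
  intro g hg
  obtain ⟨t, rfl⟩ := (mem_YA f i g).mp hg
  exact ya_mem f hf i t

omit [Fintype K] in
include hf in
theorem XB_le (j : Fin 2) : XB f j ≤ twistedE6 K q := by
  intro g hg
  obtain ⟨u, hu, rfl⟩ := (mem_XB f j g).mp hg
  exact xb_mem f hf j u hu

omit [Fintype K] in
include hf in
theorem YB_le (j : Fin 2) : YB f j ≤ twistedE6 K q := by
  intro g hg
  obtain ⟨u, hu, rfl⟩ := (mem_YB f j g).mp hg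
  exact yb_mem f hf j u hu

end

end Cfsg.Agent.Helper36.TwE6
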